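import Cfsg.Agent.Blk.Five
import Mathlib.LinearAlgebra.Matrix.BilinearForm

/-!
# Even Cartan invariants of 2-blocks with elementary abelian defect groups
-/

set_option autoImplicit false
set_option linter.unusedSectionVars false
set_option linter.style.haveILetI false

namespace Cfsg

open MonoidAlgebra GA Subgroup Module SymLoc

universe u

local notation "C(" Q ")" => Subgroup.centralizer ((Q : Subgroup _) : Set _)
local notation "N(" Q ")" => Subgroup.normalizer ((Q : Subgroup _) : Set _)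

/-- A non-degenerate alternating form in characteristic two lives in even dimension. -/
theorem Ev.even_finrank_of_alt {k V : Type*} [Field k] [CharP k 2] [AddCommGroup V] [Module k V]
    [FiniteDimensional k V] (β : LinearMap.BilinForm k V) (hs : ∀ v w, β v w = β w v)
    (ha : ∀ v, β v v = 0) (hn : ∀ v, (∀ w, β v w = 0) → v = 0) : Even (finrank k V) := by
  classical
  by_contra ho
  let b := Module.finBasis k V
  refine (LinearMap.BilinForm.nondegenerate_iff_det_ne_zero b).1 (.ofSeparatingLeft hn) ?_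
  rw [Matrix.det_apply]
  have h1 : ∀ σ : Equiv.Perm (Fin (finrank k V)), ∀ c : k, Equiv.Perm.sign σ • c = c := fun σ c => by
    rcases Int.units_eq_one_or (Equiv.Perm.sign σ) with h | h <;> simp [h, CharTwo.neg_eq]
  simp only [h1, LinearMap.BilinForm.toMatrix_apply]
  refine Finset.sum_ninvolution (fun σ => σ⁻¹) (fun σ => ?_) (fun σ h0 h => h0 ?_)
    (fun _ => Finset.mem_univ _) fun _ => inv_inv _
  · rw [← Equiv.prod_comp σ fun i => β (b (σ⁻¹ i)) (b i)]
    simp [hs (b _) (b (σ _)), CharTwo.add_self_eq_zero]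
  · obtain ⟨a, h2⟩ := Equiv.Perm.exists_fixed_point_of_prime (p := 2) (n := 1)
      (by simpa [← even_iff_two_dvd] using ho) (σ := σ) (by rw [pow_one, sq]; exact mul_eq_one_iff_inv_eq.2 h)
    exact Finset.prod_eq_zero (Finset.mem_univ a) (by rw [h2, ha])

theorem SymLoc.IsSymLocal.even_finrank {k A : Type*} [Field k] [CharP k 2] [Ring A] [Algebra k A]
    [FiniteDimensional k A] {lam : A →ₗ[k] k} {J : Submodule k A} (h : IsSymLocal lam J)
    (hJ : J ≠ ⊥) (h0 : ∀ x ∈ J, lam (x * x) = 0) : Even (finrank k A) := by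
  have : Nontrivial A := by
    by_contra hn
    rw [not_nontrivial_iff_subsingleton] at hn
    exact hJ (Subsingleton.elim _ _)
  obtain ⟨s, hs, hs1⟩ := h.exists_soc
  have hsJ : s ∈ J := h.perp_pow_le (n := 0) (by simpa using hJ) (by simpa using hs)
  let ε : A →ₗ[k] k := lam ∘ₗ LinearMap.mulRight k s
  refine Ev.even_finrank_of_alt ((LinearMap.mul k A).compr₂ lam -
    lam 1 • (LinearMap.mul k k).compl₁₂ ε ε) (fun v w => ?_) (fun v => ?_) fun v hv => ?_
  · simp [h.symm v w, mul_comm]
  · obtain ⟨c, hc⟩ := h.split v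
    obtain ⟨x, rfl⟩ : ∃ x, v = x + c • 1 := ⟨v - c • 1, by simp⟩
    rw [Algebra.algebraMap_eq_smul_one, add_sub_cancel_right] at hc
    have h1 := mem_perp.1 hs x hc
    simp [ε, add_mul, mul_add, h0 x hc, h1, hs1, ← add_assoc, CharTwo.add_self_eq_zero]
    ring
  · have h1 := hv s
    simp [ε, h0 s hsJ] at h1
    refine h.nondeg v fun w => ?_
    simpa [ε, h1, h.symm v w] using hv w

section

variable {G : Type u} [Group G] [Finite G] {k : Type*} [Field k] [CharP k 2]

theorem Ev.trK_mul_self {t : G → k} (ht : IsClassFn t) (h : ∀ g, t g * t g = t g) (x : k[G]) :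
    trK t (x * x) = trK (fun g => t (g * g)) x ^ 2 := by
  induction x using MonoidAlgebra.induction_linear with
  | zero => simp
  | add a b ha hb =>
    rw [map_add, CharTwo.add_sq, ← ha, ← hb, add_mul, mul_add, mul_add, map_add, map_add, map_add,
      trK_mul_comm ht b, add_assoc, ← add_assoc (trK t (a * b)), CharTwo.add_self_eq_zero, zero_add]
  | single g c => rw [single_mul_single, trK_single, trK_single, mul_pow, sq, sq, h]

theorem Ev.trK_pow {t : G → k} (ht : IsClassFn t) (h : ∀ g, t g * t g = t g) (n : ℕ) (x : k[G]) :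
    trK t (x ^ 2 ^ n) = trK (fun g => t (g ^ 2 ^ n)) x ^ 2 ^ n := by
  induction n generalizing x with
  | zero => simp
  | succ n ih =>
    rw [pow_succ', pow_mul, ih, sq, Ev.trK_mul_self (fun g y => by rw [conj_pow, ht]) fun g => h _,
      ← pow_mul]
    simp only [← sq, ← pow_mul]

end

variable {G : Type u} [Group G] [Finite G] {M : Ideal AlgInt} {P : Subgroup G}
  {B : Set (IrrCharacter G)} [CharP (ResK M) 2] {e : (ResK M)[G]}

theorem IsPBlock.trK_mul_blockIdem_eq_zero (hB : IsPBlock M B) (hM : IsPModular 2 M) {θ : G → ℂ}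
    (hθ : IsClassFunction G θ) (hO : ∀ g, θ g ∈ locO M) (h0 : blockPart B θ = 0) (a : (ResK M)[G]) :
    trK (red M ∘ θ) (a * blockIdem M B) = 0 := by
  induction a using MonoidAlgebra.induction_linear with
  | zero => simp
  | add a b ha hb => rw [add_mul, map_add, ha, hb, add_zero]
  | single g c =>
    have h1 : single g c = c • single g (1 : ResK M) := by simp
    have h2 := red_charExt hO (mul_mem (hB.blockIdemC_mem_intGA hM) (of_mem_intGA g))
    rw [← blockPart_eq_charExt _ hθ, h0, redGA_mul (hB.blockIdemC_mem_intGA hM) (of_mem_intGA g),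
      redGA_of, trK_mul_comm (hθ.isClassFn.map _)] at h2
    rw [h1, smul_mul_assoc, map_smul]
    exact smul_eq_zero_of_right _ (h2.symm.trans (by simp))

open Classical in
theorem IsDefectGroup.trK_mul_self (hD : IsDefectGroup 2 M B P) (hB : IsPBlock M B)
    (hM : IsPModular 2 M) (h2 : ∀ x ∈ P, x * x = 1) {x : (ResK M)[G]} (hx : IsNilpotent x)
    (hb : x * blockIdem M B = x) : trK (Pi.single 1 1) (x * x) = 0 := by
  have hd : ∀ g : G, (Pi.single 1 1 : G → ResK M) g * (Pi.single 1 1 : G → ResK M) g =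
      (Pi.single 1 1 : G → ResK M) g := fun g => by
    simp only [Pi.single_apply]; split_ifs <;> simp
  obtain ⟨n, hn⟩ := hx
  have h1 := Ev.trK_pow isClassFn_delta hd (n + 1) x
  rw [pow_eq_zero_of_le (Nat.lt_two_pow_self.le.trans' (Nat.le_succ n)) hn, map_zero] at h1
  have h3 := hB.trK_mul_blockIdem_eq_zero hM
    (θ := fun g => if g ^ 2 ^ (n + 1) = 1 ∧ g * g ≠ 1 then 1 else 0)
    (fun g y => by simp [conj_pow, mul_inv_eq_one]) (fun g => by split_ifs; exacts [one_mem _, zero_mem _])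
    (blockPart_eq_zero_iff.2 fun ψ hψ => ?_) x
  · rw [Ev.trK_mul_self isClassFn_delta hd, sq_eq_zero_iff, ← add_zero (trK _ x)]
    nth_rw 1 [← h3]
    rw [hb, ← trK_add_left, ← (pow_eq_zero_iff (by positivity)).1 h1.symm]
    congr 2
    funext g
    by_cases h : g * g = 1
    · simp [h, pow_succ', pow_mul]
    · by_cases h' : g ^ 2 ^ (n + 1) = 1 <;> simp [h, h', red_one]
  · have := Fintype.ofFinite G
    rw [ip_def, Finset.sum_eq_zero, mul_zero]
    intro g _
    split_ifs with h
    · rw [hD.apply_eq_zero hB hM hψ, map_zero, mul_zero]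
      rw [pPart_eq_self_iff.2 (isPElt_iff_pow_eq_one.2 ⟨_, h.1⟩)]
      intro d hd hc
      obtain ⟨y, rfl⟩ := isConj_iff.1 hc
      exact h.2 (by simpa [mul_inv_eq_one] using h2 _ hd)
    · rw [zero_mul]

theorem IsPBlock.cartan_ne_one (hB : IsPBlock M B) (hM : IsPModular 2 M)
    (h1 : blockDefect 2 B ≠ 0) {φ : IBr 2 M G} (hφ : φ ∈ ibrOf 2 M B) : cartan φ φ ≠ 1 := fun h => by
  classical
  obtain ⟨χ, hχ, h0⟩ := hφ
  rw [cartan, ← Finset.add_sum_erase _ _ (Finset.mem_univ χ)] at h
  have h2 := Nat.pos_of_ne_zero (mul_ne_zero h0 h0)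
  have h3 : Phi φ = χ.1 := by
    rw [Phi, Finset.sum_eq_single χ (fun ψ _ hψ => ?_) (by simp),
      Nat.eq_one_of_mul_eq_one_left (show decNum χ.1 φ * decNum χ.1 φ = 1 by omega)]
    · simp
    · have := Finset.sum_eq_zero_iff.1 (show ∑ x ∈ Finset.univ.erase χ,
        decNum x.1 φ * decNum x.1 φ = 0 by omega) ψ (by simp [hψ])
      simp [mul_self_eq_zero.1 this]
  exact h1 ((hB.blockDefect_eq_zero_iff hM).2 ⟨χ, hχ, χ.defect_zero_iff_vanish.2 fun g hg =>
    (congrFun h3 g).symm.trans (Phi_apply_of_not_reg hM φ (not_not.2 hg))⟩)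

open Classical in
theorem IsPBlock.even_cartan (hB : IsPBlock M B) (hM : IsPModular 2 M) (hD : IsDefectGroup 2 M B P)
    (h2 : ∀ x ∈ P, x * x = 1) (h1 : P ≠ ⊥) {φ : IBr 2 M G} (hφ : φ ∈ ibrOf 2 M B) :
    Even (cartan φ φ) := by
  obtain ⟨e, he, hee, hrk, h0⟩ := φ.exists_idem_rk
  have hi : redGA M e * redGA M e = redGA M e := by rw [← redGA_mul he he, hee]
  have hc : ∀ a, a * blockIdem M B = blockIdem M B * a := fun a =>
    (mul_comm_of_fixedBy_top (blockIdem_mem B).2 a).symm
  have hrad : ∀ a, φ.rep.asAlgebraHom a = 0 → (∀ ψ ≠ φ, ψ.rep.asAlgebraHom a = 0) →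
      a ∈ radGA G 2 M := fun a ha ha' => mem_radGA.2 fun ψ => by
    by_cases h : ψ = φ
    · exact h ▸ ha
    · exact ha' ψ h
  have hib : redGA M e * blockIdem M B = redGA M e := by
    have h3 : IsIdempotentElem (redGA M e - redGA M e * blockIdem M B) := by
      rw [← mul_one_sub]
      exact IsIdempotentElem.mul_of_commute ((Commute.one_right _).sub_right (hc _)) hi
        (IsIdempotentElem.one_sub (hB.blockIdem_idem hM))
    exact (sub_eq_zero.1 (h3.eq_zero_of_isNilpotent (isNilpotent_of_mem_radGA hM (hrad _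
      (by rw [map_sub, map_mul, hB.rep_blockIdem_of_mem hM hφ, mul_one, sub_self])
      fun ψ hψ => by rw [map_sub, map_mul, h0 ψ hψ, zero_mul, sub_self])))).symm
  have hs := trK_mul_comm (G := G) (isClassFn_delta (k := ResK M))
  have hS : IsSymLocal (trK (Pi.single 1 1) ∘ₗ Corner.val hi)
      ((radGA G 2 M).comap (Corner.val hi)) := by
    refine ⟨fun x y => hs _ _, fun x hx => Corner.val_injective ?_, fun a x hx => ?_,
      fun a x hx => ?_, fun a => ?_, fun x hx => ?_⟩
    · ext g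
      have := hx (Corner.proj hi (single g⁻¹ 1))
      rw [LinearMap.comp_apply, Corner.val_mul, Corner.val_proj, mul_assoc, Corner.mul_val,
        mul_assoc, hs, mul_assoc, Corner.val_mul_self] at this
      simpa [trK_delta] using this
    · exact mem_radGA.2 fun ψ => by rw [Corner.val_mul, map_mul, mem_radGA.1 hx, mul_zero]
    · exact mem_radGA.2 fun ψ => by rw [Corner.val_mul, map_mul, mem_radGA.1 hx, zero_mul]
    · obtain ⟨c, hc⟩ := exists_mul_mul_eq_smul hrk (φ.rep.asAlgebraHom (Corner.val hi a))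
      refine ⟨c, ?_⟩
      rw [Submodule.mem_comap, map_sub, Algebra.algebraMap_eq_smul_one, map_smul, Corner.val_one,
        ← Corner.proj_val a, Corner.val_proj]
      exact hrad _ (by simp [hc]) fun ψ hψ => by simp [h0 ψ hψ]
    · obtain ⟨n, hn⟩ := isNilpotent_of_mem_radGA hM hx
      exact ⟨n + 1, Corner.val_injective (by rw [Corner.val_pow, pow_succ, hn, zero_mul, map_zero])⟩
  have h3 := finrank_corner_eq hM he hee
  have h4 : ∀ χ : IrrCharacter G, charExt χ.1 e = decNum χ.1 φ := fun χ => by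
    rw [χ.isCharacter.charExt_idem hM he hee, Finset.sum_eq_single φ
      (fun ψ _ hψ => by simp [IBr.rk, h0 ψ hψ]) (by simp), hrk, Nat.cast_one, mul_one]
  simp only [h4, sq] at h3
  have h5 : finrank (ResK M) (Corner (ResK M) hi) = cartan φ φ := by
    rw [Corner.finrank_eq, cartan]
    exact_mod_cast h3
  rw [← h5]
  refine hS.even_finrank (fun h => ?_) fun x hx => hD.trK_mul_self hB hM h2
    (isNilpotent_of_mem_radGA hM hx) (show Corner.val hi x * _ = Corner.val hi x by rw [← Corner.val_mul_self x, mul_assoc, hib])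
  have := Module.nontrivial_of_finrank_pos (h5 ▸ cartan_self_pos hM φ)
  have h6 := hS.finrank_J
  rw [h, finrank_bot, h5] at h6
  exact hB.cartan_ne_one hM (fun h => h1 (card_eq_one.1 (by rw [hD.card_eq hB hM, h, pow_zero]))) hφ h6.symm

/-- A virtual character of `B` vanishing on the 2-singular elements has even norm. -/
theorem IsPBlock.even_sum [Fintype B] (hB : IsPBlock M B) (hM : IsPModular 2 M)
    (hD : IsDefectGroup 2 M B P) (h2 : ∀ x ∈ P, x * x = 1) (h1 : P ≠ ⊥) (x : B → ℤ)
    (hx : ∀ g, ¬ IsPRegular 2 g → vch (fun χ => (x χ : ℂ)) g = 0) : Even (∑ χ, x χ) := by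
  classical
  obtain ⟨a, ha, h⟩ := (isGen_vch x).exists_eq_sum_Phi hM hx
  have h3 := ip_vch_vch_int x x
  rw [h] at h3
  simp only [ip_sum_left, ip_sum_right, ip_smul_left, ip_smul_right, ip_Phi_Phi, map_intCast] at h3
  have h4 : ∑ φ, a φ * ∑ ψ, a ψ * cartan ψ φ = ∑ χ, x χ * x χ := by exact_mod_cast h3
  have h5 := congrArg (Int.cast : ℤ → ZMod 2) h4
  have h6 : ∀ y : ZMod 2, y * y = y := by decide
  push_cast at h5
  simp only [h6, Finset.mul_sum, ← Fintype.sum_prod_type'] at h5
  rw [← ZMod.intCast_eq_zero_iff_even, Int.cast_sum, ← h5]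
  refine Finset.sum_ninvolution Prod.swap (fun y => ?_) (fun y h0 hy => h0 ?_)
    (fun _ => Finset.mem_univ _) fun _ => rfl
  · rw [Prod.fst_swap, Prod.snd_swap, cartan_comm y.1, mul_left_comm, CharTwo.add_self_eq_zero]
  · by_cases hφ : y.1 ∈ ibrOf 2 M B
    · rw [show y.2 = y.1 from congrArg Prod.fst hy, (ZMod.natCast_eq_zero_iff_even).2
        (hB.even_cartan hM hD h2 h1 hφ), mul_zero, mul_zero]
    · have := ha y.1
      rw [ip_vch_left, Finset.sum_eq_zero fun χ _ => by
        rw [← conj_ip, hB.ip_ibr_irr_eq_zero' hM hφ χ.2, map_zero, mul_zero]] at this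
      rw [Int.cast_eq_zero.1 this.symm, Int.cast_zero, zero_mul]

theorem GA.IsMaxPair.even_sum [Fintype B] (hP : IsMaxPair 2 (blockIdem M B) P e)
    (hM : IsPModular 2 M) (hB : IsPBlock M B) (h2 : ∀ x ∈ P, x * x = 1) (h1 : P ≠ ⊥) (x : B → ℤ)
    (hx : ∀ u : P, u ≠ 1 → prj 2 M e u (vch fun χ => (x χ : ℂ)) = 0) : Even (∑ χ, x χ) := by
  refine hB.even_sum hM ((hB.isDefectGroup_iff hM P).2 hP.defect) h2 h1 x fun g hg => ?_
  rw [← hM.prj_one_eq_self hB hP (blockPart_vch _) hx, hM.prj_one hB hP (isClassFunction_vch _),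
    pRegularPart_of_not_reg hg]

end Cfsg
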