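import Mathlib.Data.Matrix.Mul
import Mathlib.Algebra.BigOperators.Ring.Finset
import Mathlib.Algebra.Order.BigOperators.Ring.Finset
import Mathlib.Algebra.Ring.Int.Parity
import Mathlib.Tactic.Linarith
import Mathlib.Tactic.Ring
import Mathlib.Tactic.LinearCombination
import Mathlib.Tactic.IntervalCases

/-!
# Integer matrix lemmas for small elementary abelian defect groups

`nine_odd`.  `X d = 4 d`, `Y d = 4 d` (multiply `X * X = 4 X` by `Y`, use `d ≠ 0`; `Y * X = d dᵀ` by
symmetry).  An index `i` with `d i` even has `d i = ± 2` (`8 ≤ card`, all `d ≠ 0`, `∑ d² = 16`) and then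
`X i i = Y i i = 2`; there are at most two such indices.  For every row `a`:
`∑_c X a c * d c = 4 d a` and `∑_c (X a c)² = 4 X a a` give `∑_{c : d c even} X a c` even.
One even index `i`: all `X a i` are even, `∑_{a ≠ i} (X i a)² = 4`, `∑_{a ≠ i} X i a * d a = 2 d i = ± 4`
force some `d a = ± 2`, absurd.  Two even indices `i, j`: the other `d a` are `± 1`; `α = X i j` is even;
if `α = 0` put `s = d i / 2`, then `∑_{a odd} X i a (X i a - s d a) = 4 - 4 = 0` with terms `≥ 0`, so
`X i a ∈ {0, s d a}`, likewise `X j a ∈ {0, s' d a}`, same parity, so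
`0 = (X X) i j = ∑ X i a * X j a = ± 4`, absurd.  So `α = ± 2`, `X i a = 0` for odd `a`, `α d j = 2 d i`;
the same for `Y`, so `(X Y) i i = 4 + 4 ≠ 4 = d i * d i`.

`exists_odd_ker`.  Trace: `3 k₀ + 4 k₁ = 24`, `k₀, k₁ > 0` give `k₀ = 4, k₁ = 3`.  Row `i ∉ Z`:
`16 + ∑_{a ∈ Z} (≥ 4) + rest = 32`, so `A i a = ± 2`, `A i j = 0` (`j ∉ Z`, `j ≠ i`).  Row `a ∈ Z`:
`9 + 12 + ∑_{b ≠ a} (A a b)² = 24` with odd entries, so `A a b = ± 1`.  If `A a i = A a b * A b i` for all
`a ≠ b ∈ Z`, `i ∉ Z`, then for `i ≠ j ∉ Z` the four terms of `0 = (A A) i j = ∑_a A a i * A a j` are equal and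
nonzero.  So some `A a i = - A a b * A b i`; `x = e_a - (A a b) e_b - (A a i / 2) e_i` has `xᵀ A x = 0`, hence
`|A x|² = 8 xᵀ A x = 0`.
-/

set_option autoImplicit false

namespace Cfsg.Ev

open Finset

variable {ι : Type*} [Fintype ι] [DecidableEq ι]

theorem comb_par {X : Matrix ι ι ℤ} {d : ι → ℤ} (sX : ∀ i j, X i j = X j i)
    (hX : ∀ i j, ∑ k, X i k * X k j = 4 * X i j) (hd : ∀ i, ∑ k, X i k * d k = 4 * d i) (a : ι) :
    Even (∑ c ∈ univ.filter fun c => Even (d c), X a c) := by
  have h1 : Even (∑ c, (X a c * X c a - X a c * d c - if Even (d c) then X a c else 0)) := by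
    refine Finset.even_sum _ fun c _ => ?_
    rw [← sX a c]
    split_ifs with h
    · have : X a c * X a c - X a c * d c - X a c = X a c * (X a c - 1) - X a c * d c := by ring
      rw [this]
      exact (Int.even_mul_pred_self _).sub (h.mul_left _)
    · have h' : Even (d c - 1) := by
        rw [Int.not_even_iff_odd] at h
        exact h.sub_odd odd_one
      have : X a c * X a c - X a c * d c - 0 = X a c * (X a c - 1) - X a c * (d c - 1) := by ring
      rw [this]
      exact (Int.even_mul_pred_self _).sub (h'.mul_left _)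
  rw [sum_sub_distrib, sum_sub_distrib, hX, hd, ← sum_filter] at h1
  obtain ⟨m, hm⟩ := h1
  exact ⟨2 * X a a - 2 * d a - m, by linarith⟩

theorem comb_one {X : Matrix ι ι ℤ} {d : ι → ℤ} (sX : ∀ i j, X i j = X j i)
    (hX : ∀ i j, ∑ k, X i k * X k j = 4 * X i j) (hd : ∀ i, ∑ k, X i k * d k = 4 * d i) {i : ι}
    (hE : (univ.filter fun c => Even (d c)) = {i}) (hi : X i i = 2) : False := by
  have hev : ∀ a, Even (X a i) := fun a => by
    have := comb_par sX hX hd a
    rwa [hE, sum_singleton] at this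
  have hdi : Even (d i) := by
    have : i ∈ univ.filter fun c => Even (d c) := by rw [hE]; exact mem_singleton_self i
    exact (mem_filter.1 this).2
  have h1 : (8 : ℤ) ∣ ∑ c ∈ univ.filter fun c => ¬ Even (d c),
      (2 * (X i c * d c) - X i c * X c i) := by
    refine Finset.dvd_sum fun c hc => ?_
    obtain ⟨x, hx⟩ := hev c
    obtain ⟨y, hy⟩ := Int.not_even_iff_odd.1 (mem_filter.1 hc).2
    obtain ⟨z, hz⟩ := Int.even_mul_pred_self x
    rw [sX i c, hx, hy]
    exact ⟨x * y - z, by linear_combination (-4) * hz⟩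
  have h2 := sum_filter_add_sum_filter_not univ (fun c => Even (d c))
    (fun c => 2 * (X i c * d c) - X i c * X c i)
  rw [hE, sum_singleton, sum_sub_distrib (s := univ), ← mul_sum, hX, hd, hi] at h2
  obtain ⟨m, hm⟩ := h1
  obtain ⟨t, ht⟩ := hdi
  rw [hm, ht] at h2
  omega

theorem comb_row {X : Matrix ι ι ℤ} {d : ι → ℤ} (sX : ∀ i j, X i j = X j i)
    (hX : ∀ i j, ∑ k, X i k * X k j = 4 * X i j) (hd : ∀ i, ∑ k, X i k * d k = 4 * d i) {i j : ι}
    (hij : i ≠ j) (hE : (univ.filter fun c => Even (d c)) = {i, j}) (hi : X i i = 2)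
    (h0 : X i j = 0) {s : ℤ} (hs : d i = 2 * s) (hs1 : s * s = 1)
    (ho : ∀ a, ¬ Even (d a) → d a * d a = 1) :
    (∀ a, ¬ Even (d a) → X i a = 0 ∨ X i a = s * d a) ∧
      ∑ c ∈ univ.filter fun c => ¬ Even (d c), X i c * X c i = 4 := by
  have h1 := sum_filter_add_sum_filter_not univ (fun c => Even (d c)) (fun c => X i c * X c i)
  have h2 := sum_filter_add_sum_filter_not univ (fun c => Even (d c)) (fun c => X i c * d c)
  rw [hE, sum_pair hij, hX, hi, h0] at h1
  rw [hE, sum_pair hij, hd, hi, h0] at h2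
  have h3 : ∑ c ∈ univ.filter fun c => ¬ Even (d c), X i c * (X i c - s * d c) = 0 := by
    have : ∀ c, X i c * (X i c - s * d c) = X i c * X c i - s * (X i c * d c) := fun c => by
      rw [← sX i c]; ring
    simp only [this]
    rw [sum_sub_distrib, ← mul_sum]
    have e1 : ∑ c ∈ univ.filter fun c => ¬ Even (d c), X i c * X c i = 4 := by linarith
    have e2 : ∑ c ∈ univ.filter fun c => ¬ Even (d c), X i c * d c = 4 * s := by linarith
    rw [e1, e2]
    linear_combination (-4) * hs1
  refine ⟨fun a ha => ?_, by linarith⟩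
  have h4 := (sum_eq_zero_iff_of_nonneg (fun c hc => by
    have e : (s * d c) * (s * d c) = 1 := by
      have := ho c (mem_filter.1 hc).2
      linear_combination (d c * d c) * hs1 + this
    rcases Int.eq_one_or_neg_one_of_mul_eq_one e with e | e <;> rw [e]
    · rcases le_or_gt (X i c) 0 with h | h <;> nlinarith
    · rcases le_or_gt 0 (X i c) with h | h <;> nlinarith)).1 h3 a
      (mem_filter.2 ⟨mem_univ a, ha⟩)
  rcases mul_eq_zero.1 h4 with h | h
  · exact Or.inl h
  · exact Or.inr (by linarith)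

theorem comb_two {X : Matrix ι ι ℤ} {d : ι → ℤ} (sX : ∀ i j, X i j = X j i)
    (hX : ∀ i j, ∑ k, X i k * X k j = 4 * X i j) (hd : ∀ i, ∑ k, X i k * d k = 4 * d i) {i j : ι}
    (hij : i ≠ j) (hE : (univ.filter fun c => Even (d c)) = {i, j}) (hi : X i i = 2)
    (hj : X j j = 2) {s t : ℤ} (hs : d i = 2 * s) (hs1 : s * s = 1) (ht : d j = 2 * t)
    (ht1 : t * t = 1) (ho : ∀ a, ¬ Even (d a) → d a * d a = 1) :
    (∀ a, ¬ Even (d a) → X i a = 0) ∧ X i j * d j = 2 * d i := by
  have hpar : ∀ a, Even (X a i + X a j) := fun a => by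
    have := comb_par sX hX hd a
    rwa [hE, sum_pair hij] at this
  have h0 : X i j ≠ 0 := by
    intro h0
    obtain ⟨r1, n1⟩ := comb_row sX hX hd hij hE hi h0 hs hs1 ho
    obtain ⟨r2, -⟩ := comb_row sX hX hd hij.symm (hE.trans (pair_comm i j)) hj
      ((sX j i).trans h0) ht ht1 ho
    have h1 := sum_filter_add_sum_filter_not univ (fun c => Even (d c)) (fun c => X i c * X c j)
    rw [hE, sum_pair hij, hX, h0] at h1
    have h2 : ∑ c ∈ univ.filter fun c => ¬ Even (d c), X i c * X c j =
        ∑ c ∈ univ.filter fun c => ¬ Even (d c), s * t * (X i c * X c i) := by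
      refine sum_congr rfl fun c hc => ?_
      have hc' := (mem_filter.1 hc).2
      have p := hpar c
      have o := ho c hc'
      rw [← sX i c, ← sX j c] at p ⊢
      rcases r1 c hc' with e1 | e1
      · rw [e1]; ring
      · rcases r2 c hc' with e2 | e2
        · exfalso
          rw [e1, e2, add_zero] at p
          rcases Int.eq_one_or_neg_one_of_mul_eq_one hs1 with e | e <;> rw [e] at p
          · exact hc' (by simpa using p)
          · exact hc' (by simpa using p)
        · rw [e1, e2]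
          linear_combination (-(s * t * d c * d c)) * hs1
    rw [h2, ← mul_sum, n1] at h1
    have : s * t = 0 := by linarith
    have : (s * s) * (t * t) = 0 := by linear_combination (s * t) * this
    rw [hs1, ht1] at this
    omega
  have h1 := sum_filter_add_sum_filter_not univ (fun c => Even (d c)) (fun c => X i c * X c i)
  have h2 := sum_filter_add_sum_filter_not univ (fun c => Even (d c)) (fun c => X i c * d c)
  rw [hE, sum_pair hij, hX, hi, ← sX i j] at h1
  rw [hE, sum_pair hij, hd, hi] at h2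
  have h3 : ∀ c ∈ univ.filter fun c => ¬ Even (d c), 0 ≤ X i c * X c i := fun c _ => by
    rw [← sX i c]; exact mul_self_nonneg _
  have h4 : 4 ≤ X i j * X i j := by
    obtain ⟨m, hm⟩ := hpar i
    have : X i j = 2 * (m - 1) := by linarith
    have h5 : m - 1 ≠ 0 := fun e => h0 (by rw [this, e]; rfl)
    have h6 := mul_self_pos.2 h5
    rw [this]
    nlinarith
  have h5 := sum_nonneg h3
  have h6 : ∀ a, ¬ Even (d a) → X i a = 0 := fun a ha => by
    have := (sum_eq_zero_iff_of_nonneg h3).1 (by linarith) a (mem_filter.2 ⟨mem_univ a, ha⟩)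
    rw [← sX i a] at this
    exact mul_self_eq_zero.1 this
  refine ⟨h6, ?_⟩
  rw [sum_eq_zero fun c hc => by rw [h6 c (mem_filter.1 hc).2, zero_mul]] at h2
  linarith

theorem nine_odd {X Y : Matrix ι ι ℤ} {d : ι → ℤ} (sX : ∀ i j, X i j = X j i)
    (sY : ∀ i j, Y i j = Y j i) (hX : ∀ i j, ∑ k, X i k * X k j = 4 * X i j)
    (hY : ∀ i j, ∑ k, Y i k * Y k j = 4 * Y i j) (hXY : ∀ i j, ∑ k, X i k * Y k j = d i * d j)
    (hd : ∑ i, d i * d i = 16) (h0 : ∀ i, d i ≠ 0) (hc : 8 ≤ Fintype.card ι)
    (he : ∀ i, Even (d i) → 4 ≤ 4 * X i i - d i * d i ∧ 4 ≤ 4 * Y i i - d i * d i ∧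
      4 ≤ 16 - 4 * X i i - 4 * Y i i + d i * d i) (i : ι) : Odd (d i) := by
  have hXd : ∀ i, ∑ k, X i k * d k = 4 * d i := by
    intro i
    apply mul_right_cancel₀ (h0 i)
    calc (∑ k, X i k * d k) * d i = ∑ k, ∑ l, X i k * X k l * Y l i := by
          rw [sum_mul]
          refine sum_congr rfl fun k _ => ?_
          rw [mul_assoc, ← hXY, mul_sum]
          exact sum_congr rfl fun l _ => by ring
      _ = ∑ l, (∑ k, X i k * X k l) * Y l i := by
          rw [sum_comm]
          exact sum_congr rfl fun l _ => by rw [sum_mul]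
      _ = 4 * d i * d i := by
          simp only [hX, mul_assoc]
          rw [← mul_sum, hXY]
  have hYd : ∀ i, ∑ k, Y i k * d k = 4 * d i := by
    intro i
    apply mul_right_cancel₀ (h0 i)
    calc (∑ k, Y i k * d k) * d i = ∑ k, ∑ l, X i l * (Y l k * Y k i) := by
          rw [sum_mul]
          refine sum_congr rfl fun k _ => ?_
          rw [mul_assoc, mul_comm (d k), ← hXY, mul_sum, sY i k]
          exact sum_congr rfl fun l _ => by ring
      _ = ∑ l, X i l * ∑ k, Y l k * Y k i := by
          rw [sum_comm]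
          exact sum_congr rfl fun l _ => by rw [mul_sum]
      _ = 4 * d i * d i := by
          simp only [hY, mul_assoc]
          rw [← hXY, mul_sum]
          exact sum_congr rfl fun l _ => by ring
  have hpos : ∀ c, 1 ≤ d c * d c := fun c => mul_self_pos.2 (h0 c)
  have hev : ∀ c, Even (d c) → ∃ s, d c = 2 * s ∧ s * s = 1 ∧ X c c = 2 ∧ Y c c = 2 := by
    intro c hc'
    obtain ⟨a1, a2, a3⟩ := he c hc'
    obtain ⟨s, hs⟩ := hc'
    have b1 : ∑ _x ∈ univ.erase c, (1 : ℤ) ≤ ∑ x ∈ univ.erase c, d x * d x :=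
      sum_le_sum fun x _ => hpos x
    have b2 := add_sum_erase univ (fun x => d x * d x) (mem_univ c)
    rw [sum_const, card_erase_of_mem (mem_univ c), card_univ, nsmul_eq_mul, mul_one] at b1
    have b3 : d c * d c ≤ 9 := by
      rw [hd] at b2
      omega
    have b4 : s * s = 1 := by
      have := hpos c
      rw [hs] at this b3
      have c1 : 1 ≤ s * s := by nlinarith
      have c2 : s * s < 3 := by nlinarith
      have c3 : s ≤ 1 := by nlinarith
      have c4 : -1 ≤ s := by nlinarith
      interval_cases s <;> omega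
    have b5 : d c * d c = 4 := by rw [hs]; linear_combination 4 * b4
    refine ⟨s, by linarith, b4, by omega, by omega⟩
  by_contra hi
  rw [Int.not_odd_iff_even] at hi
  obtain ⟨s, hs, hs1, xi, yi⟩ := hev i hi
  have hsplit := sum_filter_add_sum_filter_not univ (fun c => Even (d c)) (fun c => d c * d c)
  have hE4 : ∑ c ∈ univ.filter fun c => Even (d c), d c * d c =
      4 * ((univ.filter fun c => Even (d c)).card : ℤ) := by
    rw [sum_congr rfl (g := fun _ => 4), sum_const, nsmul_eq_mul, mul_comm]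
    intro c hc'
    obtain ⟨t, ht, ht1, -⟩ := hev c (mem_filter.1 hc').2
    rw [ht]; linear_combination 4 * ht1
  have hO1 : ((univ.filter fun c => ¬ Even (d c)).card : ℤ) ≤
      ∑ c ∈ univ.filter fun c => ¬ Even (d c), d c * d c := by
    have := sum_le_sum (s := univ.filter fun c => ¬ Even (d c)) fun x _ => hpos x
    rwa [sum_const, nsmul_eq_mul, mul_one] at this
  have hcard := card_filter_add_card_filter_not (s := univ) (fun c => Even (d c))
  rw [card_univ] at hcard
  rw [hE4, hd] at hsplit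
  have hiE : i ∈ univ.filter fun c => Even (d c) := mem_filter.2 ⟨mem_univ i, hi⟩
  have hle : (univ.filter fun c => Even (d c)).card ≤ 2 := by omega
  have hge : 0 < (univ.filter fun c => Even (d c)).card := card_pos.2 ⟨i, hiE⟩
  rcases (by omega : (univ.filter fun c => Even (d c)).card = 1 ∨
    (univ.filter fun c => Even (d c)).card = 2) with h1 | h2
  · obtain ⟨a, ha⟩ := card_eq_one.1 h1
    rw [ha, mem_singleton] at hiE
    exact comb_one sX hX hXd (hiE ▸ ha) xi
  · obtain ⟨j, hij, hE⟩ : ∃ j, i ≠ j ∧ (univ.filter fun c => Even (d c)) = {i, j} := by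
      obtain ⟨a, b, hab, hE⟩ := card_eq_two.1 h2
      rw [hE, mem_insert, mem_singleton] at hiE
      rcases hiE with rfl | rfl
      · exact ⟨b, hab, hE⟩
      · exact ⟨a, hab.symm, hE.trans (pair_comm _ _)⟩
    have hj : Even (d j) := by
      have : j ∈ univ.filter fun c => Even (d c) := by rw [hE]; simp
      exact (mem_filter.1 this).2
    obtain ⟨t, ht, ht1, xj, yj⟩ := hev j hj
    have ho : ∀ a, ¬ Even (d a) → d a * d a = 1 := by
      intro a ha
      have b1 : d a * d a ≤ ∑ c ∈ univ.filter fun c => ¬ Even (d c), d c * d c :=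
        single_le_sum (f := fun c => d c * d c) (fun c _ => mul_self_nonneg _)
          (mem_filter.2 ⟨mem_univ a, ha⟩)
      rw [h2] at hsplit
      have b2 : d a * d a ≤ 8 := by omega
      have c3 : d a ≤ 2 := by nlinarith
      have c4 : -2 ≤ d a := by nlinarith
      have c5 := Int.not_even_iff.1 ha
      generalize d a = x at *
      interval_cases x <;> omega
    obtain ⟨x0, x1⟩ := comb_two sX hX hXd hij hE xi xj hs hs1 ht ht1 ho
    obtain ⟨-, y1⟩ := comb_two sY hY hYd hij hE yi yj hs hs1 ht ht1 ho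
    have h1 := sum_filter_add_sum_filter_not univ (fun c => Even (d c)) (fun c => X i c * Y c i)
    rw [hE, sum_pair hij, hXY, xi, yi, ← sY i j,
      sum_eq_zero fun c hc => by rw [x0 c (mem_filter.1 hc).2, zero_mul]] at h1
    rw [hs, ht] at x1 y1
    rw [hs] at h1
    have e1 : X i j * t = 2 * s := by linarith
    have e2 : Y i j * t = 2 * s := by linarith
    have e3 : X i j * Y i j = 4 := by
      linear_combination (Y i j * t) * e1 + 2 * s * e2 + 4 * hs1 - X i j * Y i j * ht1
    linarith

theorem exists_odd_ker {A : Matrix ι ι ℤ} (Z : ι → Prop) [DecidablePred Z]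
    (sA : ∀ i j, A i j = A j i) (hA : ∀ i j, ∑ k, A i k * A k j = 8 * A i j) (ht : ∑ i, A i i = 24)
    (h1 : ∀ a, Z a → A a a = 3) (h2 : ∀ i, ¬ Z i → A i i = 4) (h3 : ∀ a b, Z a → Z b → Odd (A a b))
    (h4 : ∀ a i, Z a → ¬ Z i → Even (A a i) ∧ A a i ≠ 0) (h5 : ∃ a, Z a) (h6 : ∃ i, ¬ Z i) :
    ∃ x : ι → ℤ, Odd (∑ i, x i) ∧ ∀ j, ∑ i, x i * A i j = 0 := by
  have hcount : (univ.filter Z).card = 4 ∧ (univ.filter fun i => ¬ Z i).card = 3 := by
    have e := sum_filter_add_sum_filter_not univ Z (fun i => A i i)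
    rw [ht, sum_congr rfl (g := fun _ => 3) fun a ha => h1 a (mem_filter.1 ha).2,
      sum_congr (s₁ := univ.filter fun i => ¬ Z i) rfl (g := fun _ => 4)
        fun a ha => h2 a (mem_filter.1 ha).2, sum_const, sum_const, nsmul_eq_mul,
      nsmul_eq_mul] at e
    obtain ⟨a, ha⟩ := h5
    obtain ⟨i, hi⟩ := h6
    have p1 : 0 < (univ.filter Z).card := card_pos.2 ⟨a, mem_filter.2 ⟨mem_univ a, ha⟩⟩
    have p2 : 0 < (univ.filter fun i => ¬ Z i).card := card_pos.2 ⟨i, mem_filter.2 ⟨mem_univ i, hi⟩⟩
    omega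
  obtain ⟨c4, c3⟩ := hcount
  have hge : ∀ a i, Z a → ¬ Z i → 4 ≤ A i a * A a i := by
    intro a i ha hi
    obtain ⟨⟨m, hm⟩, h0⟩ := h4 a i ha hi
    have : m ≠ 0 := fun e => h0 (by rw [hm, e]; rfl)
    have := mul_self_pos.2 this
    rw [sA i a, hm]
    nlinarith
  have row1 : ∀ i, ¬ Z i → (∀ a, Z a → A i a * A a i = 4) ∧ ∀ j, ¬ Z j → j ≠ i → A i j = 0 := by
    intro i hi
    have e := sum_filter_add_sum_filter_not univ Z (fun c => A i c * A c i)
    have hiO : i ∈ univ.filter fun i => ¬ Z i := mem_filter.2 ⟨mem_univ i, hi⟩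
    rw [hA, ← add_sum_erase _ _ hiO, h2 i hi] at e
    have b1 : ∀ c ∈ univ.filter Z, (4 : ℤ) ≤ A i c * A c i := fun c hc =>
      hge c i (mem_filter.1 hc).2 hi
    have b2 : ∀ c ∈ (univ.filter fun i => ¬ Z i).erase i, 0 ≤ A i c * A c i := fun c _ => by
      rw [← sA i c]; exact mul_self_nonneg _
    have b3 := sum_le_sum b1
    have b4 := sum_nonneg b2
    have b5 : ∑ _c ∈ univ.filter Z, (4 : ℤ) = 16 := by rw [sum_const, c4]; rfl
    refine ⟨fun a ha => ?_, fun j hj hji => ?_⟩
    · exact ((sum_eq_sum_iff_of_le b1).1 (by linarith) a (mem_filter.2 ⟨mem_univ a, ha⟩)).symm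
    · have := (sum_eq_zero_iff_of_nonneg b2).1 (by linarith) j
        (mem_erase.2 ⟨hji, mem_filter.2 ⟨mem_univ j, hj⟩⟩)
      rw [← sA i j] at this
      exact mul_self_eq_zero.1 this
  have row2 : ∀ a b, Z a → Z b → b ≠ a → A a b * A a b = 1 := by
    intro a b ha hb hba
    have e := sum_filter_add_sum_filter_not univ Z (fun c => A a c * A c a)
    have haZ : a ∈ univ.filter Z := mem_filter.2 ⟨mem_univ a, ha⟩
    rw [hA, ← add_sum_erase _ _ haZ, h1 a ha,
      sum_congr (s₁ := univ.filter fun i => ¬ Z i) rfl (g := fun _ => 4) fun i hi => by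
        rw [mul_comm]; exact (row1 i (mem_filter.1 hi).2).1 a ha,
      sum_const, c3] at e
    have b1 : ∀ c ∈ (univ.filter Z).erase a, (1 : ℤ) ≤ A a c * A c a := fun c hc => by
      rw [← sA a c]
      have := h3 a c ha (mem_filter.1 (mem_erase.1 hc).2).2
      exact mul_self_pos.2 fun e : A a c = 0 => by rw [e] at this; exact absurd this (by decide)
    have b5 : ∑ _c ∈ (univ.filter Z).erase a, (1 : ℤ) = 3 := by
      rw [sum_const, card_erase_of_mem haZ, c4]; rfl
    have := (sum_eq_sum_iff_of_le b1).1 (by simp only [nsmul_eq_mul] at e; push_cast at e; linarith)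
      b (mem_erase.2 ⟨hba, mem_filter.2 ⟨mem_univ b, hb⟩⟩)
    rw [← sA a b] at this
    exact this.symm
  obtain ⟨a, b, i, ha, hb, hba, hi, hne⟩ :
      ∃ a b i, Z a ∧ Z b ∧ b ≠ a ∧ ¬ Z i ∧ A a i ≠ A a b * A b i := by
    by_contra hcon
    push Not at hcon
    obtain ⟨i, hi, j, hj, hij⟩ := one_lt_card.1 (by rw [c3]; norm_num :
      1 < (univ.filter fun i => ¬ Z i).card)
    have hi' := (mem_filter.1 hi).2
    have hj' := (mem_filter.1 hj).2
    obtain ⟨a, ha⟩ := h5
    have e := sum_filter_add_sum_filter_not univ Z (fun c => A i c * A c j)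
    rw [hA, (row1 i hi').2 j hj' hij.symm,
      sum_eq_zero (s := univ.filter fun i => ¬ Z i) fun c hc => by
        by_cases hci : c = i
        · rw [hci, (row1 i hi').2 j hj' hij.symm, mul_zero]
        · rw [(row1 i hi').2 c (mem_filter.1 hc).2 hci, zero_mul],
      sum_congr rfl (g := fun _ => A a i * A a j) fun b hb => by
        by_cases hba : b = a
        · rw [hba, sA i a]
        · have hb' := (mem_filter.1 hb).2
          rw [hcon a b i ha hb' hba hi', hcon a b j ha hb' hba hj', sA i b]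
          linear_combination (-(A b i * A b j)) * row2 a b ha hb' hba,
      sum_const, c4] at e
    have : A a i * A a j = 0 := by simp only [nsmul_eq_mul] at e; push_cast at e; linarith
    rcases mul_eq_zero.1 this with h | h
    · exact (h4 a i ha hi').2 h
    · exact (h4 a j ha hj').2 h
  obtain ⟨η, hη⟩ := (h4 a i ha hi).1
  have e1 := row2 a b ha hb hba
  have e2 := (row1 i hi).1 a ha
  have e3 := (row1 i hi).1 b hb
  rw [sA i a] at e2
  rw [sA i b] at e3
  have e4 : η * η = 1 := by rw [hη] at e2; linarith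
  have e5 : A b i = -(A a b * (η + η)) := by
    have : (A a i - A a b * A b i) * (A a i + A a b * A b i) = 0 := by
      linear_combination e2 - A a b * A a b * e3 - 4 * e1
    have := (mul_eq_zero.1 this).resolve_left (sub_ne_zero.2 hne)
    rw [← hη]
    linear_combination A a b * this - A b i * e1
  have hx : ∀ f : ι → ℤ, ∑ c, ((if c = a then 1 else 0) - (if c = b then A a b else 0) -
      (if c = i then η else 0)) * f c = f a - A a b * f b - η * f i := by
    intro f
    simp [sub_mul, sum_sub_distrib]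
  refine ⟨fun c => (if c = a then 1 else 0) - (if c = b then A a b else 0) -
      (if c = i then η else 0), ?_, fun j => ?_⟩
  · have := hx fun _ => 1
    simp only [mul_one] at this
    rw [this]
    rcases Int.eq_one_or_neg_one_of_mul_eq_one e1 with e | e <;>
      rcases Int.eq_one_or_neg_one_of_mul_eq_one e4 with e' | e' <;> rw [e, e'] <;> decide
  · rw [hx fun c => A c j]
    have h0 : ∑ j, (A a j - A a b * A b j - η * A i j) * (A a j - A a b * A b j - η * A i j) = 0 := by
      have : ∀ j, (A a j - A a b * A b j - η * A i j) * (A a j - A a b * A b j - η * A i j) =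
          A a j * A j a + A a b * A a b * (A b j * A j b) + η * η * (A i j * A j i)
            - 2 * A a b * (A a j * A j b) - 2 * η * (A a j * A j i)
            + 2 * A a b * η * (A b j * A j i) := fun j => by
        rw [sA j a, sA j b, sA j i]; ring
      simp only [this, sum_add_distrib, sum_sub_distrib, ← mul_sum, hA]
      rw [h1 a ha, h1 b hb, h2 i hi, e5, hη]
      linear_combination (8 - 32 * η * η) * e1 - 32 * e4
    exact mul_self_eq_zero.1
      ((sum_eq_zero_iff_of_nonneg fun j _ => mul_self_nonneg _).1 h0 j (mem_univ j))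

end Cfsg.Ev
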