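import Cfsg.Agent.Ev.Mat

/-!
# Counting characters of blocks with abelian defect group and small inertial quotient
-/

set_option autoImplicit false
set_option linter.unusedSectionVars false
set_option linter.style.haveILetI false

namespace Cfsg

open MonoidAlgebra GA Subgroup MulAction

universe u

local notation "C(" Q ")" => Subgroup.centralizer ((Q : Subgroup _) : Set _)
local notation "N(" Q ")" => Subgroup.normalizer ((Q : Subgroup _) : Set _)

variable {G : Type u} [Group G] [Finite G] {M : Ideal AlgInt} {P : Subgroup G}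
  {B : Set (IrrCharacter G)} [CharP (ResK M) 2] {e : (ResK M)[G]}

theorem Ev.le_centralizer_of_sq (h2 : ∀ x ∈ P, x * x = 1) : P ≤ C(P) := fun x hx y hy => by
  rw [← inv_inj, mul_inv_rev, inv_eq_of_mul_eq_one_right (h2 _ (mul_mem hx hy)),
    inv_eq_of_mul_eq_one_right (h2 x hx), inv_eq_of_mul_eq_one_right (h2 y hy)]

namespace GA.IsMaxPair

variable (hP : IsMaxPair 2 (blockIdem M B) P e) (hM : IsPModular 2 M) (hB : IsPBlock M B)
  (hab : P ≤ C(P))
include hP hab

theorem ncard_mul_stab (u : P) : (fClass 2 P e u).ncard *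
    Nat.card (iAut P e ⊓ stabilizer (MulAut P) u : Subgroup _) = Nat.card (iAut P e) := by
  rw [← (stabilizer (iAut P e) u).index_mul_card, index_stabilizer, ← Nat.card_congr
    (subgroupOfEquivOfLe inf_le_left).toEquiv, inf_subgroupOf_left]
  congr 2
  ext v
  rw [hP.mem_fClass_iff_iAut hab]
  exact ⟨fun ⟨ρ, h, h'⟩ => ⟨⟨ρ, h⟩, h'⟩, fun ⟨ρ, h⟩ => ⟨ρ, ρ.2, h⟩⟩

theorem mem_fClass_of_ncard {v : P} (hv : v ≠ 1) (h : Nat.card P ≤ (fClass 2 P e v).ncard + 1)
    (u : P) (hu : u ≠ 1) : u ∈ fClass 2 P e v := by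
  have h1 : fClass 2 P e v ⊆ {1}ᶜ := fun w hw e => hv (by
    rw [Set.mem_singleton_iff.1 e] at hw
    simpa [hP.pair.fClass_of_central (u := 1) (one_mem _)] using mem_fClass_symm hw)
  have h2 := Set.ncard_add_ncard_compl ({1} : Set P)
  rw [Set.ncard_singleton] at h2
  rw [Set.eq_of_subset_of_ncard_le h1 (by omega)]
  exact hu

include hM hB

theorem fw_mul (u : P) (h3 : Nat.card (iAut P e ⊓ stabilizer (MulAut P) u : Subgroup _) ≤ 3) :
    fw 2 M P e u * Nat.card (iAut P e) =
      Nat.card (iAut P e ⊓ stabilizer (MulAut P) u : Subgroup _) ^ 2 := by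
  have h := hP.ncard_mul_stab hab u
  have h0 : ((fClass 2 P e u).ncard : ℝ) ≠ 0 :=
    Nat.cast_ne_zero.2 (left_ne_zero_of_mul (h ▸ Nat.card_pos.ne'))
  rw [fw, hP.lrk_eq_card_stab hM hB hab u h3, ← h]
  push_cast
  field_simp

theorem card_of_one (h : Nat.card (iAut P e) = 1) : Nat.card B = Nat.card P := by
  letI := Fintype.ofFinite P
  have h1 : ∀ u, fw 2 M P e u = 1 := fun u => by
    have h2 := Nat.eq_one_of_mul_eq_one_left ((hP.ncard_mul_stab hab u).trans h)
    have := hP.fw_mul hM hB hab u (by omega)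
    rw [h, h2] at this
    simpa using this
  have := hM.card_eq_sum_fw hB hP
  simp only [h1, Finset.sum_const, Finset.card_univ, nsmul_one, ← Nat.card_eq_fintype_card] at this
  exact_mod_cast this

theorem card_of_three (h : Nat.card (iAut P e) = 3) {σ : MulAut P} (hσ : σ ∈ iAut P e)
    (h1 : σ ≠ 1) : 3 * Nat.card B = 8 * Nat.card (autFix σ) + Nat.card P := by
  classical
  letI := Fintype.ofFinite P
  haveI : Fact (Nat.card (iAut P e)).Prime := ⟨h ▸ Nat.prime_three⟩
  have h2 : ∀ u, 3 * fw 2 M P e u = 8 * (if u ∈ autFix σ then 1 else 0) + 1 := fun u => by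
    have h3 := hP.fw_mul hM hB hab u (h ▸ card_le_of_le inf_le_left)
    rw [h, mul_comm, ← Nat.card_congr (subgroupOfEquivOfLe inf_le_left).toEquiv] at h3
    rcases ((iAut P e ⊓ stabilizer (MulAut P) u).subgroupOf (iAut P e)).eq_bot_or_eq_top_of_prime_card
      with h4 | h4
    · rw [if_neg fun hu : u ∈ autFix σ =>
        h1 (congrArg Subtype.val ((eq_bot_iff_forall _).1 h4 ⟨σ, hσ⟩ ⟨hσ, hu⟩))]
      rw [h4, card_bot] at h3
      simpa using h3
    · rw [if_pos (show u ∈ autFix σ from ((eq_top_iff' _).1 h4 ⟨σ, hσ⟩).2)]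
      rw [h4, card_top, h] at h3
      norm_num at h3 ⊢
      exact h3
  have := congrArg (3 * ·) (hM.card_eq_sum_fw hB hP)
  simp only [Finset.mul_sum, h2] at this
  simp only [Finset.sum_add_distrib, ← Finset.mul_sum, Finset.sum_boole,
    Finset.sum_const, Finset.card_univ, nsmul_one, ← Nat.card_eq_fintype_card,
    ← Fintype.card_subtype] at this
  exact_mod_cast this

omit hab in
theorem card_of_trans {v : P} (hv : v ≠ 1) (ht : ∀ u : P, u ≠ 1 → u ∈ fClass 2 P e v) :
    Nat.card B = blockRank 2 B + lrk 2 M P e (zpowers (v : G)) := by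
  classical
  letI := Fintype.ofFinite P
  have h1 : v ∉ fClass 2 P e 1 := by rwa [hP.pair.fClass_of_central (one_mem _)]
  have h9 := hM.card_eq_sum_fw hB hP
  rw [← Finset.add_sum_erase _ _ (Finset.mem_univ 1), hM.fw_one hB hP, hM.sum_fw_of_eq hP.pair
    (u := v) fun w => ⟨fun h => ht w (Finset.mem_erase.1 h).1, fun h => by
      simpa using fun e : w = 1 => h1 (mem_fClass_symm (e ▸ h))⟩] at h9
  exact_mod_cast h9

omit hab in
theorem prj_of_trans {v : P} (hv : v ≠ 1) (ht : ∀ u : P, u ≠ 1 → u ∈ fClass 2 P e v) (χ : B) :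
    prj 2 M e (1 : P) χ.1.1 = χ.1.1 - prj 2 M e v χ.1.1 := by
  have h1 : v ∉ fClass 2 P e 1 := by rwa [hP.pair.fClass_of_central (one_mem _)]
  have cf := χ.1.isClassFunction
  have h5 := hM.prj_one_eq_self hB hP (θ := χ.1.1 - prj 2 M e v χ.1.1)
    (by rw [blockPart_sub, blockPart_irr_of_mem χ.2, hM.blockPart_prj hB hP v cf]) fun u hu => by
      rw [prj_sub, hP.pair.prj_eq (ht u hu), hM.prj_prj hP.pair v cf, sub_self]
  rwa [prj_sub, hM.prj_prj_of_notMem hP.pair h1 cf, sub_zero] at h5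

end GA.IsMaxPair

end Cfsg
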