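import Cfsg.Agent.Ev.Count
import Cfsg.Agent.Ev.Comb

/-!
# 2-blocks with elementary abelian defect group of order 8
-/

set_option autoImplicit false
set_option linter.unusedSectionVars false
set_option linter.style.haveILetI false

namespace Cfsg

open MonoidAlgebra GA Subgroup MulAction

universe u

local notation "C(" Q ")" => Subgroup.centralizer ((Q : Subgroup _) : Set _)
local notation "N(" Q ")" => Subgroup.normalizer ((Q : Subgroup _) : Set _)

variable {G : Type u} [Group G] [Finite G] {M : Ideal AlgInt} {P : Subgroup G}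
  {B : Set (IrrCharacter G)} [CharP (ResK M) 2] {e : (ResK M)[G]}

theorem IsSec.subPart_mem_regLat {H : Type u} [Group H] [Finite H] {f : H →* G} {x : G}
    (h : IsSec 2 f x) (hx : x * x = 1) (b : Set (IrrCharacter H)) {θ : G → ℂ}
    (hθ : IsGeneralizedCharacter G θ) : subPart 2 f x b θ ∈ regLat 2 b := by
  obtain ⟨s, ω, u, hω, hu, hs⟩ := h.exists_subPart_pow_eq (n := 0) (by rwa [zero_add, pow_one, sq]) b hθ
  have := hs 1 (by decide)
  rw [pow_one] at this
  rw [this]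
  refine sum_mem fun i hi => ?_
  rcases sq_eq_one_iff.1 (show ω i ^ 2 = 1 from hω i) with h | h
  · simpa [h] using hu i hi
  · simpa [h] using neg_mem (hu i hi)

namespace GA.IsMaxPair

variable (hP : IsMaxPair 2 (blockIdem M B) P e) (hM : IsPModular 2 M) (hB : IsPBlock M B)
include hP

theorem trans_of_prime (hab : P ≤ C(P)) {q : ℕ} (hq : q.Prime) (h : Nat.card P = q + 1)
    (hd : q ∣ Nat.card (iAut P e)) {v : P} (hv : v ≠ 1) :
    (∀ u : P, u ≠ 1 → u ∈ fClass 2 P e v) ∧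
      q * Nat.card (iAut P e ⊓ stabilizer (MulAut P) v : Subgroup _) = Nat.card (iAut P e) := by
  have h1 := hP.ncard_mul_stab hab v
  have h2 : q ∣ (fClass 2 P e v).ncard := (hq.dvd_mul.1 (h1 ▸ hd)).resolve_right fun h2 => by
    obtain ⟨σ, hσ, h3⟩ := exists_orderOf_eq q hq h2
    obtain ⟨h4, h5⟩ := card_modEq_of_orderOf' hq h3
    have h6 := (one_lt_card_iff_ne_bot (autFix σ)).2 fun h => hv (mem_bot.1 (h ▸ hσ.2))
    rw [h, Nat.add_mod_left, Nat.mod_eq_of_lt hq.one_lt] at h4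
    rcases (Nat.lt_succ_iff.1 (h ▸ h5)).eq_or_lt with h7 | h7
    · simp [h7] at h4
    · rw [Nat.mod_eq_of_lt h7] at h4
      omega
  obtain ⟨k, hk⟩ := h2
  have h3 : (fClass 2 P e v).ncard ≤ q + 1 := h ▸ Set.ncard_le_card _
  have h4 : (fClass 2 P e v).ncard ≠ 0 := left_ne_zero_of_mul (h1 ▸ Nat.card_pos.ne')
  obtain rfl : k = 1 := by
    have := hq.two_le
    rcases k with _ | _ | k
    · simp [hk] at h4
    · rfl
    · nlinarith
  exact ⟨hP.mem_fClass_of_ncard hab hv (by omega), by rw [← h1, hk, mul_one]⟩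

include hM hB

theorem exists_sign [Fintype B] (h2 : ∀ x ∈ P, x * x = 1) (h8 : Nat.card P ≤ 8) {v : P} (hv : v ≠ 1)
    (ht : ∀ u : P, u ≠ 1 → u ∈ fClass 2 P e v) (hl : lrk 2 M P e (zpowers (v : G)) = 1) :
    Nat.card B = Nat.card P ∧ ∀ η ∈ regLat 2 B, ∀ a : ℤ, Nat.card P * ip η η = a → Odd a →
      ∃ m n : ℤ, Odd m ∧ Odd n ∧ a = Nat.card P * m - n ^ 2 := by
  obtain ⟨-, -, d, h3, h4, h5⟩ := hP.exists_one hM hB h2 hv ht hl
  refine ⟨?_, fun η hη a ha ho => ?_⟩
  · have h6 : ∀ χ, d χ * d χ = 1 := fun χ => by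
      have := h4 ▸ Finset.single_le_sum (fun χ _ => mul_self_nonneg (d χ)) (Finset.mem_univ χ)
      obtain ⟨c, hc⟩ := h3 χ
      have : -2 < c ∧ c < 1 := by constructor <;> nlinarith
      rcases (by omega : c = -1 ∨ c = 0) with rfl | rfl <;> simp [hc]
    simp only [h6, Finset.sum_const, Finset.card_univ, nsmul_one, ← Nat.card_eq_fintype_card] at h4
    exact_mod_cast h4
  · obtain ⟨n, hn⟩ := h5 η hη
    have h6 : a = _ := Int.cast_injective (ha.symm.trans hn)
    have h7 : Even (Nat.card P) := even_iff_two_dvd.2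
      (orderOf_eq_prime (p := 2) (Subtype.ext ((sq _).trans (h2 _ v.2))) hv ▸ orderOf_dvd_natCard v)
    have h9 : Odd (∑ χ, n χ * d χ) := by
      rw [h6, Int.odd_sub'] at ho
      exact (Int.odd_pow.1 (ho.2 ((Int.even_coe_nat _).2 h7 |>.mul_right _))).resolve_right two_ne_zero
    refine ⟨_, _, ?_, h9, h6⟩
    refine (Int.even_sub'.1 ?_).2 h9
    rw [← Finset.sum_sub_distrib]
    exact Finset.even_sum _ fun χ _ => by
      obtain ⟨c, hc⟩ := h3 χ
      rw [← mul_sub, hc, ← sub_sub, sub_right_comm, mul_sub, mul_left_comm]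
      exact (Int.even_mul_pred_self _).sub (even_two_mul _)

theorem diag_mod (h2 : ∀ x ∈ P, x * x = 1) (h8 : Nat.card P = 8) {v : P} (hv : v ≠ 1)
    (h3 : Nat.card (iAut P e ⊓ stabilizer (MulAut P) v : Subgroup _) = 3) (χ : B) {a : ℤ}
    (ha : Nat.card P * ip (prj 2 M e v χ.1.1) χ.1.1 = a) (ho : Odd a) : a % 8 = 3 := by
  have hab := Ev.le_centralizer_of_sq h2
  obtain ⟨H, _, _, Q, _, _, f, π, b, s, P', ρ, c, e', hR⟩ := hM.exists_red hB hP v.2
    (le_centralizer_zpowers_of_comm hab v.2)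
  letI := Fintype.ofFinite c
  have hS := hR.loc.isSec hP.pair
  obtain ⟨η, h4, h5⟩ := hR.loc.block.exists_regLat_preimage_inflate hM hR.quot.surj
    hR.quot.pgrp (hR.c_eq ▸ hR.block) (hS.subPart_mem_regLat (h2 _ v.2) b χ.1.isCharacter.isGen)
  rw [← hR.c_eq] at h4
  have cf := χ.1.isClassFunction
  rw [hR.loc.ip_prj hM hP cf cf, hS.contrib_eq_ip_subPart hM hR.loc.block _ cf, h5, hR.card_eq,
    ← hR.defect_eq, Nat.cast_pow, hR.pow_mul_ip h4] at ha
  have h6 := hR.card_mul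
  rw [orderOf_coe, orderOf_eq_prime (p := 2) (Subtype.ext ((sq _).trans (h2 _ v.2))) hv, h8] at h6
  have h7 := (hR.card_iAut hab).trans h3
  obtain ⟨w, hw⟩ := (one_lt_card_iff_ne_bot P').1 (by omega) |> (ne_bot_iff_exists_ne_one.1 ·)
  obtain ⟨h9, h10⟩ := hR.max.trans_of_prime (hR.comm hab) Nat.prime_three (by omega) (by omega) hw
  obtain ⟨m, n, ⟨m, rfl⟩, ⟨n, rfl⟩, h11⟩ := (hR.max.exists_sign hM hR.block (fun x hx => by
    obtain ⟨y, hy⟩ := hR.surj ⟨x, hx⟩
    have := congrArg (fun z => (ρ z : Q)) (show y * y = 1 from Subtype.ext (h2 _ y.2))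
    simpa [hy] using this) (by omega) hw h9 (by
      rw [hR.max.lrk_eq_card_stab hM hR.block (hR.comm hab) w (by omega)]; omega)).2 η h4 a ha ho
  obtain ⟨k, hk⟩ := Int.even_mul_succ_self n
  rw [show Nat.card P' = 4 by omega] at h11
  have : a = 8 * (m - k) + 3 := by push_cast at h11; linear_combination h11 - 4 * hk
  omega

theorem eight_three (h2 : ∀ x ∈ P, x * x = 1) (h8 : Nat.card P = 8) {v : P} (hv : v ≠ 1)
    (ht : ∀ u : P, u ≠ 1 → u ∈ fClass 2 P e v)
    (h3 : Nat.card (iAut P e ⊓ stabilizer (MulAut P) v : Subgroup _) = 3) : Nat.card B = 8 := by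
  classical
  letI := Fintype.ofFinite B
  have hab := Ev.le_centralizer_of_sq h2
  obtain ⟨A, a1, a2, a3, a4, a5, a6, a7⟩ := hP.exists_cmat hM hB (h2 _ v.2)
    (le_centralizer_zpowers_of_comm hab v.2)
  obtain ⟨A', b1, -, -, -, -, b6, -⟩ := hP.exists_cmat hM hB (u := 1) (by simp)
    (le_centralizer_zpowers_of_comm hab (one_mem _))
  rw [hP.lrk_eq_card_stab hM hB hab v h3.le, h3] at a4
  simp only [h8, Nat.cast_ofNat] at a3 a4
  have h4 : ∀ χ ψ : B, blockHeight 2 B χ.1.1 = 0 → blockHeight 2 B ψ.1.1 = 0 → Odd (A χ ψ) :=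
    fun χ ψ h h' => by simpa [h, ← even_iff_two_dvd] using a5 χ ψ h' 1
  have h5 : ∀ χ : B, blockHeight 2 B χ.1.1 = 0 → A χ χ = 3 := fun χ h => by
    have h6 := hP.diag_mod hM hB h2 h8 hv h3 χ (a1 χ χ) (h4 χ χ h h)
    have h7 : A χ χ * A χ χ ≤ 8 * A χ χ := a3 χ χ ▸ Finset.single_le_sum
      (f := fun k => A χ k * A k χ) (fun k _ => a2 χ k ▸ mul_self_nonneg _) (Finset.mem_univ χ)
    have : 0 ≤ A χ χ ∧ A χ χ ≤ 8 := by constructor <;> nlinarith
    omega
  by_cases h6 : ∀ χ : B, blockHeight 2 B χ.1.1 = 0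
  · simp only [fun χ => h5 χ (h6 χ), Finset.sum_const, Finset.card_univ, nsmul_eq_mul,
      ← Nat.card_eq_fintype_card] at a4
    omega
  obtain ⟨ψ, hψ, h0⟩ := exists_blockHeight_eq_zero (p := 2) (hB.nonempty hM)
  obtain ⟨x, hx, hx'⟩ := Ev.exists_odd_ker (fun χ : B => blockHeight 2 B χ.1.1 = 0) a2 a3 a4 h5
    (fun χ h => by
      have h7 := b1 χ χ
      rw [hP.prj_of_trans hM hB hv ht, ip_sub_left, mul_sub, a1, χ.1.ip_self, h8] at h7
      have h9 : 8 - A χ χ = A' χ χ := by exact_mod_cast h7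
      obtain ⟨k, hk⟩ := (pow_dvd_pow 2 (show 2 ≤ _ by omega)).trans (a6 χ h).1
      have := (a6 χ h).2
      have := (b6 χ h).2
      omega) h4
    (fun χ ψ h h' => a2 ψ χ ▸ ⟨even_iff_two_dvd.2 ((a5 ψ χ h 1).2 (by omega)), fun h0 => by
      simpa [h0] using a5 ψ χ h (blockHeight 2 B ψ.1.1 + 1)⟩) ⟨⟨ψ, hψ⟩, h0⟩ (not_forall.1 h6)
  exact absurd (hP.even_sum hM hB h2 ((one_lt_card_iff_ne_bot P).1 (by omega)) x fun u hu => by
    rw [hP.pair.prj_eq (ht u hu), a7 x hx']) (Int.not_even_iff_odd.2 hx)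

end GA.IsMaxPair

theorem GA.IsMaxPair.eight (hP : IsMaxPair 2 (blockIdem M B) P e) (hM : IsPModular 2 M)
    (hB : IsPBlock M B) (h2 : ∀ x ∈ P, x * x = 1) (h8 : Nat.card P = 8) :
    Nat.card B = 8 ∧
      (blockRank 2 B = 1 ∨ blockRank 2 B = 3 ∨ blockRank 2 B = 5 ∨ blockRank 2 B = 7) := by
  have hab := Ev.le_centralizer_of_sq h2
  letI := Fintype.ofFinite B
  letI : CommGroup P := { (inferInstance : Group P) with
    mul_comm := fun a b => Subtype.ext (hab b.2 a a.2) }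
  have h21 := (faith_ker hP.pair.isPGroup (hP.not_dvd_card_iAut hM hab)).dvd_21
    (h8 ▸ card_le_card_group _)
  obtain ⟨v, hv⟩ := (one_lt_card_iff_ne_bot P).1 (by omega) |> (ne_bot_iff_exists_ne_one.1 ·)
  have h3 : Nat.card (iAut P e) ∈ Nat.divisors 21 := Nat.mem_divisors.2 ⟨h21, by decide⟩
  rw [show Nat.divisors 21 = {1, 3, 7, 21} by decide] at h3
  simp only [Finset.mem_insert, Finset.mem_singleton] at h3
  rcases h3 with h | h | h
  · exact ⟨h8 ▸ hP.card_of_one hM hB hab h, .inl (h ▸ hP.blockRank_eq_card_iAut hM hB hab (by omega))⟩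
  · obtain ⟨σ, hσ, h3⟩ := exists_orderOf_eq 3 Nat.prime_three h.symm.dvd
    have h4 := hP.card_of_three hM hB hab h hσ (by rintro rfl; simp at h3)
    obtain ⟨h5, h6⟩ := card_modEq_of_orderOf' Nat.prime_three h3
    have h7 := card_subgroup_dvd_card (autFix σ)
    have := hP.blockRank_eq_card_iAut hM hB hab h.le
    rw [h8] at h4 h5 h6 h7
    generalize Nat.card (autFix σ) = k at *
    interval_cases k <;> omega
  · obtain ⟨ht, h4⟩ := hP.trans_of_prime hab (q := 7) (by norm_num) h8 (by omega) hv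
    have h5 := hP.card_of_trans hM hB hv ht
    have h6 := hP.lrk_eq_card_stab hM hB hab v (by omega)
    rcases h with h | h
    · have := (hP.exists_sign hM hB h2 h8.le hv ht (by omega)).1
      omega
    · have := hP.eight_three hM hB h2 h8 hv ht (by omega)
      omega

end Cfsg
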