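import Cfsg.Agent.Ev.Count

/-!
# Abelian defect group of order 16 with free or small inertial quotient: all heights vanish
-/

set_option autoImplicit false
set_option linter.unusedSectionVars false
set_option linter.style.haveILetI false

namespace Cfsg

open MonoidAlgebra GA Subgroup MulAction

universe u

local notation "C(" Q ")" => Subgroup.centralizer ((Q : Subgroup _) : Set _)
local notation "N(" Q ")" => Subgroup.normalizer ((Q : Subgroup _) : Set _)

variable {G : Type u} [Group G] [Finite G] {M : Ideal AlgInt} {P : Subgroup G}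
  {B : Set (IrrCharacter G)} [CharP (ResK M) 2] {e : (ResK M)[G]}

theorem ExcOut.even_sub {A : Type*} [Group A] [Fintype A] {E : Subgroup (MulAut A)} {S : A → G → ℂ}
    {X Y : Set (IrrCharacter G)} {δ d : ℤ} {ζ : (A →* ℂˣ) → IrrCharacter G} {a : IrrCharacter G → ℤ}
    (o : ExcOut 2 B E S X Y δ d ζ a) (h : ExcSys 2 M B E S) (hD : IsDefectGroup 2 M B P)
    (h2 : ∀ x ∈ P, x * x = 1) (h1 : P ≠ ⊥) {χ : IrrCharacter G} (hχ : χ ∈ X) :
    Even (a χ * Nat.card Y - (Nat.card Y * d - δ)) := by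
  classical
  letI := Fintype.ofFinite B
  have h3 : ∀ {R : Type} [AddCommMonoid R] (F : IrrCharacter G → R),
      ∑ ψ : B, (if ψ.1 ∈ Y then F ψ else 0) = ∑ ψ with ψ ∈ Y, F ψ := fun F => by
    rw [sum_block_eq_sum (F := fun ψ => if ψ ∈ Y then F ψ else 0)
      fun ψ hψ => if_neg (mt (fun h => o.Y_subset h) hψ), Finset.sum_filter]
  have := h.block.even_sum h.modular hD h2 h1 (fun ψ => (if ψ.1 ∈ Y then a χ else 0) -
    if ψ = ⟨χ, o.X_subset hχ⟩ then Nat.card Y * d - δ else 0) fun g hg =>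
      h.vanish_of_dec (isClassFunction_vch _) (blockPart_vch _) (fun u hu => by
        have h4 := o.sumY u hu
        rw [finsum_mem_irr_eq_sum] at h4
        simp only [vch, excDec_sum, excDec_smul, Int.cast_sub, Int.cast_ite, sub_mul, ite_mul,
          Finset.sum_sub_distrib, Int.cast_zero, zero_mul, h3 fun ψ => a χ * excDec S ψ.1 u,
          ← Finset.mul_sum, h4, Finset.sum_ite_eq', Finset.mem_univ, if_true, o.nonexc _ hχ u hu]
        push_cast; ring) hg
  rw [Finset.sum_sub_distrib, h3 fun _ => a χ, Finset.sum_const, ← natCard_eq_card_filter] at this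
  simpa [mul_comm] using this

theorem GA.IsMaxPair.ht_of_free (hP : IsMaxPair 2 (blockIdem M B) P e) (hM : IsPModular 2 M)
    (hB : IsPBlock M B) (hab : P ≤ C(P)) (h16 : Nat.card P = 16) (hf : Exc.IsFree (iAut P e)) :
    ∀ χ ∈ B, blockHeight 2 B χ.1 = 0 := by
  classical
  letI := Fintype.ofFinite P
  letI := Fintype.ofFinite B
  letI : CommGroup P := { (inferInstance : Group P) with
    mul_comm := fun a b => Subtype.ext (hab b.2 a a.2) }
  have h1 := (one_lt_card_iff_ne_bot P).1 (by omega)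
  obtain ⟨S, hS⟩ := hP.exists_excSys_of_free hM hB hab h1 hf
  by_cases h3 : Nat.card (iAut P e) ≤ 3
  · obtain ⟨X, Y, δ, ζ, a, o, -, ha⟩ := hS.exists_out_normal (hP.blockRank_eq_card_iAut hM hB hab h3).ge
    exact fun χ hχ => o.blockHeight_eq_zero hS ha hχ
  have h2 : ∀ x ∈ P, x * x = 1 := fun x hx => by_contra fun h => h3 (Nat.le_of_dvd three_pos
    (card_dvd_three_of_ne_one hP.pair.isPGroup (hP.not_dvd_card_iAut hM hab) h16.le (x := ⟨x, hx⟩)
      fun e => h (by rw [← sq]; exact congrArg Subtype.val e)))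
  have h4 : Nat.card (iAut P e) ∈ Nat.divisors 15 := Nat.mem_divisors.2 ⟨by have := hS.card_dvd; rwa [h16] at this, by decide⟩
  rw [show Nat.divisors 15 = {1, 3, 5, 15} by decide] at h4
  simp only [Finset.mem_insert, Finset.mem_singleton] at h4
  rcases (by omega : Nat.card (iAut P e) = 5 ∨ Nat.card (iAut P e) = 15) with h | h
  · obtain ⟨X, Y, δ, d, ζ, a, o⟩ := hS.exists_out
    have hD := (hB.isDefectGroup_iff hM P).2 hP.defect
    have hY : Nat.card Y = 3 := by have := o.cardY; rw [h] at this; omega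
    have h5 := fun χ hχ => o.even_sub hS hD h2 h1 (χ := χ) hχ
    have h6 := o.norm
    rw [hY, h, finsum_mem_irr_eq_sum] at h6
    simp only [hY, Int.even_iff] at h5
    push_cast at h5 h6
    have h7 : ∀ n : ℤ, (∀ χ ∈ X, n ≤ a χ ^ 2) → Nat.card X * n ≤ ∑ χ with χ ∈ X, a χ ^ 2 := fun n hn => by
      rw [natCard_eq_card_filter, ← nsmul_eq_mul]
      exact Finset.card_nsmul_le_sum _ _ _ fun χ hχ => hn χ (Finset.mem_filter.1 hχ).2
    have h8 := h7 1 fun χ hχ => (one_le_sq_iff_one_le_abs _).2 (Int.one_le_abs (o.a_ne χ hχ))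
    have h9 := o.rank ▸ hB.blockRank_pos hM
    have h10 : -2 < d ∧ d < 2 := by constructor <;> nlinarith [sq_nonneg (d - δ)]
    by_cases hd : d = 0
    · subst hd
      refine fun χ hχ => o.blockHeight_eq_zero hS (fun ψ hψ => ?_) hχ
      have := Finset.single_le_sum (fun χ _ => sq_nonneg (a χ))
        ((Finset.mem_filter (p := (· ∈ X))).2 ⟨Finset.mem_univ ψ, hψ⟩)
      have := h5 ψ hψ
      have : -3 < a ψ ∧ a ψ < 3 := by constructor <;> nlinarith [sq_nonneg δ, o.sq]
      have := o.sign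
      omega
    have h11 : d = δ := by
      rcases o.sign with rfl | rfl <;> rcases (by omega : d = 1 ∨ d = -1) with rfl | rfl <;> omega
    subst h11
    have h12 := h7 4 fun χ hχ => by
      have := h5 χ hχ
      have := o.a_ne χ hχ
      rcases (by omega : 2 ≤ a χ ∨ a χ ≤ -2) with h | h <;> nlinarith
    have h13 := o.sq
    have h14 := o.card_eq
    have h15 : Nat.card X = 1 := by
      rw [sq d, h13, sub_self] at h6
      omega
    have := hB.pow_eq_card_of_le_four hM (o.rank.trans h15) (by omega)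
    rw [← hD.card_eq hB hM] at this
    omega
  · obtain ⟨v, hv⟩ := ne_bot_iff_exists_ne_one.1 h1
    have h5 : Nat.card (iAut P e ⊓ stabilizer (MulAut P) v : Subgroup _) = 1 :=
      card_eq_one.2 ((eq_bot_iff_forall _).2 fun σ hσ => hf σ hσ.1 v hv hσ.2)
    have h6 := hP.ncard_mul_stab hab v
    exact (hP.exists_one hM hB h2 hv (hP.mem_fClass_of_ncard hab hv (by rw [h5] at h6; omega))
      (h5 ▸ hP.lrk_eq_card_stab hM hB hab v (by omega))).1

theorem GA.IsMaxPair.ht_of_le_three (hP : IsMaxPair 2 (blockIdem M B) P e) (hM : IsPModular 2 M)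
    (hB : IsPBlock M B) (hab : P ≤ C(P)) (h16 : Nat.card P = 16) (h3 : Nat.card (iAut P e) ≤ 3) :
    ∀ χ ∈ B, blockHeight 2 B χ.1 = 0 := by
  have h1 := hP.not_dvd_card_iAut hM hab
  have h2 := hP.ht_of_card hM hB (one_mem _) (le_centralizer_zpowers_of_comm hab (one_mem _))
    (by rwa [zpowers_one_eq_bot, hM.lrk_bot hB hP.toIsPairOf, hP.blockRank_eq_card_iAut hM hB hab h3])
  rcases (by omega : Nat.card (iAut P e) = 1 ∨ Nat.card (iAut P e) = 3) with h | h
  · exact h2 (hP.card_of_one hM hB hab h)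
  by_cases hf : Exc.IsFree (iAut P e)
  · exact hP.ht_of_free hM hB hab h16 hf
  simp only [Exc.IsFree, not_forall] at hf
  obtain ⟨σ, hσ, u, hu, h4, h5⟩ := hf
  have h6 := hP.card_of_three hM hB hab h hσ h5
  have h7 := card_subgroup_dvd_card (autFix σ)
  have h8 := card_autFix_lt h5
  have h9 := (one_lt_card_iff_ne_bot (autFix σ)).2 fun h => hu (mem_bot.1 (h ▸ h4))
  refine h2 ?_
  rw [h16] at h6 h7 h8 ⊢
  generalize Nat.card (autFix σ) = k at *
  interval_cases k <;> omega

end Cfsg
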