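import Cfsg.Agent.Ev.Eight

/-!
# Abelian defect group, elementary abelian of order 8 modulo an inertia-fixed cyclic subgroup

Take `hR : Red … z … P' ρ c e'` (`exists_red`), apply `eight` to `c`.  `l(B) = lrk z = l(c)`
(`IsLoc.watanabe`, `Red.rank`).  `card_eq_sum_fw` for `B` and `c` and `fw u = fw' (ρ u)` give
`k(B) = o(z) k(c)`: `ρ` maps `fClass u` (an `iAut`-orbit, `mem_fClass_iff_iAut`) bijectively onto
`fClass (ρ u)` (`fwd_iAut`, `bwd_iAut`; `σ u = u zʲ` with `σ` of odd order fixing `z` gives `zʲ = 1`);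
if `u` is fixed both ranks are `l(B) = l(c)` by Watanabe; otherwise the stabilisers have the same order
(`card_iAut`, orbit-stabiliser) which is `≤ 3` (`Faith.dvd_21`; an automorphism of order 7 of a group of
order 8 fixes only 1: `card_modEq_of_orderOf'`), use `lrk_eq_card_stab` on both sides.  Heights:
`ht_of_card` with `u = 1` if `iAut` is trivial (`blockRank_eq_card_iAut`), else a non-fixed `u`.
-/

set_option autoImplicit false
set_option linter.unusedSectionVars false
set_option linter.style.haveILetI false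

namespace Cfsg

open MonoidAlgebra GA Subgroup

universe u

local notation "C(" Q ")" => Subgroup.centralizer ((Q : Subgroup _) : Set _)
local notation "N(" Q ")" => Subgroup.normalizer ((Q : Subgroup _) : Set _)

variable {G : Type u} [Group G] [Finite G] {M : Ideal AlgInt} {P : Subgroup G}
  {B : Set (IrrCharacter G)} [CharP (ResK M) 2] {e : (ResK M)[G]}

/-- An odd order group of automorphisms of an elementary abelian group of order 8: point
stabilisers have order at most three. -/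
theorem Ev.card_stab_le {A : Type u} [Group A] [Finite A] (h2 : ∀ x : A, x * x = 1)
    (h8 : Nat.card A = 8) {J : Subgroup (MulAut A)} (hJ : ¬ 2 ∣ Nat.card J) {a : A} (ha : a ≠ 1) :
    Nat.card (J ⊓ MulAction.stabilizer (MulAut A) a : Subgroup _) ≤ 3 := by
  letI : CommGroup A := { (inferInstance : Group A) with
    mul_comm := fun a b => by
      calc a * b = (a * b)⁻¹ := (inv_eq_of_mul_eq_one_right (h2 _)).symm
        _ = b * a := by
          rw [mul_inv_rev, inv_eq_of_mul_eq_one_right (h2 a), inv_eq_of_mul_eq_one_right (h2 b)] }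
  have hF : Faith 2 J (⊤ : Subgroup A) := ⟨fun _ _ _ _ => trivial,
    fun σ _ h => MulEquiv.ext fun w => h w trivial, fun w _ => by rw [sq, h2], hJ⟩
  have h21 := (card_dvd_of_le (inf_le_left (b := MulAction.stabilizer (MulAut A) a))).trans
    (hF.dvd_21 (by rw [card_top, h8]))
  have h7 : ¬ 7 ∣ Nat.card (J ⊓ MulAction.stabilizer (MulAut A) a : Subgroup _) := by
    intro h7
    haveI : Fact (Nat.Prime 7) := ⟨by norm_num⟩
    obtain ⟨σ, hσ⟩ := exists_prime_orderOf_dvd_card' 7 h7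
    rw [← Subgroup.orderOf_coe] at hσ
    obtain ⟨h3, h4⟩ := card_modEq_of_orderOf' (by norm_num) hσ
    have h5 : Nat.card (autFix (σ : MulAut A)) = 1 := by omega
    have h6 : a ∈ autFix (σ : MulAut A) := σ.2.2
    rw [card_eq_one.1 h5] at h6
    exact ha h6
  have := Nat.le_of_dvd (by norm_num) h21
  generalize Nat.card (J ⊓ MulAction.stabilizer (MulAut A) a : Subgroup _) = n at *
  interval_cases n <;> simp_all

theorem GA.IsMaxPair.lift_eight (hP : IsMaxPair 2 (blockIdem M B) P e) (hM : IsPModular 2 M)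
    (hB : IsPBlock M B) (hab : P ≤ C(P)) {z : P} (hz : ∀ σ ∈ iAut P e, σ z = z)
    (h2 : ∀ x ∈ P, x * x ∈ zpowers (z : G)) (h8 : Nat.card P = 8 * orderOf (z : G)) :
    Nat.card B = Nat.card P ∧ (∀ χ ∈ B, blockHeight 2 B χ.1 = 0) ∧
      (blockRank 2 B = 1 ∨ blockRank 2 B = 3 ∨ blockRank 2 B = 5 ∨ blockRank 2 B = 7) := by
  classical
  obtain ⟨H, _, _, Q, _, _, f, π, b, s, P', ρ, c, e', r⟩ :=
    hM.exists_red hB hP z.2 (le_centralizer_zpowers_of_comm hab z.2)
  have hab' := r.comm hab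
  have c8 : Nat.card P' = 8 :=
    Nat.eq_of_mul_eq_mul_right (orderOf_pos (z : G)) (r.card_mul.trans h8)
  have sq' : ∀ x : P', x * x = 1 := fun x => by
    obtain ⟨x, rfl⟩ := r.surj x
    rw [← map_mul, r.eq_one_iff]
    exact h2 x x.2
  obtain ⟨k8, hl⟩ := r.max.eight hM r.block
    (fun x hx => congrArg Subtype.val (sq' ⟨x, hx⟩)) c8
  have fixz : ∀ σ ∈ iAut P e, ∀ w : P, ρ w = 1 → σ w = w := by
    intro σ hσ w hw
    obtain ⟨n, hn⟩ := r.eq_one_iff.1 hw
    rw [show w = z ^ n from Subtype.ext hn.symm, map_zpow, hz σ hσ]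
  have wat : ∀ w : P, ρ w = 1 → lrk 2 M P e (zpowers (w : G)) = blockRank 2 B := fun w hw =>
    hM.watanabeStmt G B P e hB hP hab w w.2 fun g hg => by
      obtain ⟨σ, h5, h6⟩ := exists_mem_iAut hg
      rw [← h6, fixz σ h5 w hw]
  have lB : blockRank 2 c = blockRank 2 B :=
    r.rank.trans (wat z (r.eq_one_iff.2 (mem_zpowers _)))
  have inj : ∀ σ ∈ iAut P e, ∀ u : P, ρ (σ u) = ρ u → σ u = u := by
    intro σ hσ u h
    have h1 : ρ (u⁻¹ * σ u) = 1 := by rw [map_mul, map_inv, h, inv_mul_cancel]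
    have h3 : ∀ n : ℕ, (σ ^ n) u = u * (u⁻¹ * σ u) ^ n := by
      intro n
      induction n with
      | zero => simp
      | succ n ih =>
        rw [pow_succ', MulAut.mul_apply, ih, map_mul, map_pow, fixz σ hσ _ h1, pow_succ',
          ← mul_assoc, mul_inv_cancel_left]
    have h4 := h3 (Nat.card (iAut P e))
    rw [show σ ^ Nat.card (iAut P e) = 1 from
      congrArg Subtype.val (pow_card_eq_one' (x := (⟨σ, hσ⟩ : iAut P e))), MulAut.one_apply,
      left_eq_mul] at h4
    have h5 := IsPGroup.coprime_card_of_not_dvd hP.pair.isPGroup (hP.not_dvd_card_iAut hM hab)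
    have h6 : orderOf (u⁻¹ * σ u) = 1 := Nat.eq_one_of_dvd_coprimes h5
      (orderOf_dvd_natCard _) (orderOf_dvd_of_pow_eq_one h4)
    exact (inv_mul_eq_one.1 (orderOf_eq_one_iff.1 h6)).symm
  have stab : ∀ u : P, Nat.card (iAut P e ⊓ MulAction.stabilizer (MulAut P) u : Subgroup _) =
      Nat.card (iAut P' e' ⊓ MulAction.stabilizer (MulAut P') (ρ u) : Subgroup _) := by
    intro u
    choose F h1 h3 using fun σ : (iAut P e ⊓ MulAction.stabilizer (MulAut P) u : Subgroup _) =>
      r.fwd_iAut σ.2.1 (hz _ σ.2.1)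
    refine Nat.card_eq_of_bijective (fun σ => ⟨F σ, h1 σ, (h3 σ u).trans (congrArg ρ σ.2.2)⟩)
      ⟨fun σ τ e => ?_, fun σ' => ?_⟩
    · rw [← mul_inv_eq_one]
      refine Subtype.ext (r.eq_one_of_apply hab (σ * τ⁻¹).2.1 (hz _ (σ * τ⁻¹).2.1) fun x => ?_)
      have := h3 τ (τ.1⁻¹ x)
      rw [← show F σ = F τ from congrArg Subtype.val e, h3] at this
      simpa using this
    · obtain ⟨σ, h4, -, h5⟩ := r.bwd_iAut σ'.2.1
      exact ⟨⟨σ, h4, inj σ h4 u ((h5 u).symm.trans σ'.2.2)⟩, Subtype.ext (MulEquiv.ext fun x => by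
        obtain ⟨x, rfl⟩ := r.surj x
        exact (h3 _ x).trans (h5 x).symm)⟩
  have le3 : ∀ u : P, ρ u ≠ 1 →
      Nat.card (iAut P' e' ⊓ MulAction.stabilizer (MulAut P') (ρ u) : Subgroup _) ≤ 3 :=
    fun u hu => Ev.card_stab_le sq' c8 (r.max.not_dvd_card_iAut hM hab') hu
  have hlrk : ∀ u : P, lrk 2 M P e (zpowers (u : G)) = lrk 2 M P' e' (zpowers (ρ u : Q)) := by
    intro u
    by_cases hu : ρ u = 1
    · rw [wat u hu, hu, coe_one, zpowers_one_eq_bot, hM.lrk_bot r.block r.max.toIsPairOf, lB]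
    · rw [hP.lrk_eq_card_stab hM hB hab u (stab u ▸ le3 u hu),
        r.max.lrk_eq_card_stab hM r.block hab' _ (le3 u hu), stab]
  have hcl : ∀ u : P, (fClass 2 P e u).ncard = (fClass 2 P' e' (ρ u)).ncard := by
    intro u
    rw [← Set.InjOn.ncard_image (f := ρ)]
    · congr 1
      ext v'
      simp only [Set.mem_image, hP.mem_fClass_iff_iAut hab, r.max.mem_fClass_iff_iAut hab']
      constructor
      · rintro ⟨_, ⟨σ, hσ, rfl⟩, rfl⟩
        obtain ⟨σ', h1, h3⟩ := r.fwd_iAut hσ (hz σ hσ)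
        exact ⟨σ', h1, h3 u⟩
      · rintro ⟨σ', hσ', rfl⟩
        obtain ⟨σ, h1, -, h3⟩ := r.bwd_iAut hσ'
        exact ⟨_, ⟨σ, h1, rfl⟩, (h3 u).symm⟩
    · intro v hv w hw h
      obtain ⟨σ, hσ, rfl⟩ := (hP.mem_fClass_iff_iAut hab).1 hv
      obtain ⟨τ, hτ, rfl⟩ := (hP.mem_fClass_iff_iAut hab).1 hw
      have := inj (σ * τ⁻¹) (mul_mem hσ (inv_mem hτ)) (τ u) (by simpa using h)
      simpa using this
  have hk : Nat.card B = Nat.card P := by
    letI := Fintype.ofFinite P
    letI := Fintype.ofFinite P'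
    have h1 := hM.card_eq_sum_fw hB hP
    have h3 := hM.card_eq_sum_fw r.block r.max
    have h4 : ∀ u : P, fw 2 M P e u = fw 2 M P' e' (ρ u) := fun u => by
      unfold fw
      rw [hlrk, hcl]
    have h5 : ∀ v : P', (Finset.univ.filter fun u : P => ρ u = v).card = orderOf (z : G) := by
      intro v
      have h6 := card_map_mul_card_ker (π := ρ) (P := ⊤) le_top
      rw [map_top_of_surjective _ r.surj, card_top, card_top, ← r.card_mul] at h6
      rw [← Nat.eq_of_mul_eq_mul_left Nat.card_pos h6,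
        ← Nat.card_congr (MonoidHom.fiberEquivKerOfSurjective r.surj v), ← Nat.card_eq_finsetCard]
      exact Nat.card_congr (Equiv.subtypeEquivRight (by simp))
    rw [Finset.sum_congr rfl fun u _ => h4 u,
      ← Finset.sum_fiberwise' Finset.univ (fun u : P => ρ u) (fw 2 M P' e')] at h1
    simp only [Finset.sum_const, h5, nsmul_eq_mul] at h1
    rw [← Finset.mul_sum, ← h3, k8] at h1
    rw [h8, mul_comm]
    exact_mod_cast h1
  refine ⟨hk, ?_, lB ▸ hl⟩
  haveI : Nontrivial P' := Finite.one_lt_card_iff_nontrivial.1 (by omega)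
  obtain ⟨v, hv⟩ := exists_ne (1 : P')
  obtain ⟨u, rfl⟩ := r.surj v
  refine hP.ht_of_card hM hB u.2 (le_centralizer_zpowers_of_comm hab u.2) ?_ hk
  rw [hP.lrk_eq_card_stab hM hB hab u (stab u ▸ le3 u hv), stab]
  exact le3 u hv

end Cfsg
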