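import Cfsg.Agent.Ev.Cartan
import Cfsg.Agent.Blk.Grid

/-!
# Integral contribution matrices; blocks with one class of non-trivial subsections
-/

set_option autoImplicit false
set_option linter.unusedSectionVars false
set_option linter.style.haveILetI false

namespace Cfsg

open MonoidAlgebra GA Subgroup

universe u

local notation "C(" Q ")" => Subgroup.centralizer ((Q : Subgroup _) : Set _)
local notation "N(" Q ")" => Subgroup.normalizer ((Q : Subgroup _) : Set _)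

variable {G : Type u} [Group G] [Finite G] {M : Ideal AlgInt} {P : Subgroup G}
  {B : Set (IrrCharacter G)} [CharP (ResK M) 2] {e : (ResK M)[G]}

/-- The contribution matrix of a major subsection of an element of order at most two. -/
theorem GA.IsMaxPair.exists_cmat [Fintype B] (hP : IsMaxPair 2 (blockIdem M B) P e)
    (hM : IsPModular 2 M) (hB : IsPBlock M B) {u : P} (h2 : (u : G) * u = 1)
    (hu : P ≤ C(zpowers (u : G))) : ∃ A : Matrix B B ℤ,
    (∀ χ ψ : B, Nat.card P * ip (prj 2 M e u χ.1.1) ψ.1.1 = A χ ψ) ∧ (∀ χ ψ, A χ ψ = A ψ χ) ∧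
    (∀ χ ψ, ∑ k, A χ k * A k ψ = Nat.card P * A χ ψ) ∧
    ∑ χ, A χ χ = Nat.card P * lrk 2 M P e (zpowers (u : G)) ∧
    (∀ χ ψ : B, blockHeight 2 B ψ.1.1 = 0 → ∀ j, 2 ^ j ∣ A χ ψ ↔ j ≤ blockHeight 2 B χ.1.1) ∧
    (∀ χ : B, blockHeight 2 B χ.1.1 ≠ 0 → 2 ^ (blockHeight 2 B χ.1.1 + 1) ∣ A χ χ ∧ 0 < A χ χ) ∧
    ∀ x : B → ℤ, (∀ ψ, ∑ χ, x χ * A χ ψ = 0) → prj 2 M e u (vch fun χ => (x χ : ℂ)) = 0 := by
  obtain ⟨b, hb⟩ := hM.exists_isLoc_subtype hP.pair (zpowers_le.2 u.2)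
  have hS := hb.isSec hP.pair
  have hi := hM.induces_of_bpLe hB hP hS hb.block hb.le
  have hd := hb.blockDefect_eq_of_le hM hB hP hu
  have hc := ((hB.isDefectGroup_iff hM _).2 hP.defect).card_eq hB hM
  have cf := fun χ : B => χ.1.isClassFunction
  choose A hA using fun χ ψ : B => hS.exists_int_contrib_of_sq (b := b) (by rwa [sq])
    χ.1.isCharacter.isGen ψ.1.isCharacter.isGen
  simp only [hd, ← Nat.cast_pow, ← hc, ← hb.ip_prj hM hP (cf _) (cf _)] at hA
  have h0 : (Nat.card P : ℂ) ≠ 0 := Nat.cast_ne_zero.2 Nat.card_pos.ne'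
  refine ⟨A, hA, fun χ ψ => ?_, fun χ ψ => ?_, ?_, fun χ ψ h j => ?_, fun χ h => ?_, fun x hx => ?_⟩
  · have := congrArg (starRingEnd ℂ) (hA χ ψ)
    rw [map_mul, map_natCast, conj_ip, ← hM.ip_prj_comm hP.pair u (cf _) (cf _), hA, map_intCast] at this
    exact_mod_cast this.symm
  · have := ip_eq_sum_block (hM.blockPart_prj hB hP u (cf χ)) (prj 2 M e u ψ.1.1)
    rw [hM.ip_prj_prj hP.pair u (cf _) (cf _)] at this
    simp only [← hM.ip_prj_comm hP.pair u (cf _) (cf _)] at this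
    have h1 : ∑ k, (A χ k : ℂ) * A k ψ = Nat.card P * A χ ψ := by
      simp only [← hA, this, Finset.mul_sum]
      exact Finset.sum_congr rfl fun _ _ => by ring
    exact_mod_cast h1
  · have h1 : ∑ χ, (A χ χ : ℂ) = Nat.card P * lrk 2 M P e (zpowers (u : G)) := by
      simp only [← hA, ← Finset.mul_sum, hM.sum_ip_prj hB hP]
    exact_mod_cast h1
  · exact hM.pow_dvd_iff_of_vM (by rw [← hA]; exact hM.vM_ip_prj hB hP hu χ.2 ψ.2 h) j
  · obtain ⟨c, h1, h3⟩ := hS.exists_avgC_even hM (n := 0) (by rwa [zero_add, pow_one, sq]) hi hd χ.2 h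
    rw [avgC, show cK 2 0 = {1} by decide, Finset.sum_singleton, pow_one, hd,
      ← hb.ip_prj hM hP (cf _) (cf _), Finset.card_singleton, Nat.cast_one,
      div_one, ← Nat.cast_pow, ← hc, hA, Complex.intCast_re] at h1
    have h4 : A χ χ = 2 ^ (blockHeight 2 B χ.1.1 + 1) * c := by exact_mod_cast h1
    exact ⟨⟨c, h4⟩, by rw [h4]; positivity⟩
  · rw [← hM.blockPart_prj hB hP u (isClassFunction_vch _), blockPart_eq_zero_iff]
    intro ψ hψ
    refine mul_left_cancel₀ h0 ?_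
    rw [vch, prj_sum, ip_sum_left, Finset.mul_sum, mul_zero, ← Int.cast_zero, ← hx ⟨ψ, hψ⟩, Int.cast_sum]
    exact Finset.sum_congr rfl fun χ _ => by
      rw [prj_smul, ip_smul_left, mul_left_comm, hA χ ⟨ψ, hψ⟩, Int.cast_mul]

/-- `k(B) = |P|` and a major subsection of rank at most three force height zero. -/
theorem GA.IsMaxPair.ht_of_card (hP : IsMaxPair 2 (blockIdem M B) P e) (hM : IsPModular 2 M)
    (hB : IsPBlock M B) {u : G} (hu : u ∈ P) (hc : P ≤ C(zpowers u))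
    (hl : lrk 2 M P e (zpowers u) ≤ 3) (hk : Nat.card B = Nat.card P) :
    ∀ χ ∈ B, blockHeight 2 B χ.1 = 0 := by
  classical
  intro χ hχ
  have h1 := (hM.four_mul_card_le hB hP hu hc hl).1
  have h2 := card_eq_kz_add (p := 2) B
  by_contra h
  have := Finset.card_pos.2 ⟨χ, (Finset.mem_filter (p := fun χ : IrrCharacter G =>
    χ ∈ B ∧ blockHeight 2 B χ.1 ≠ 0)).2 ⟨Finset.mem_univ _, hχ, h⟩⟩
  omega

/-- Elementary abelian defect group, one class of non-trivial subsections, of rank one. -/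
theorem GA.IsMaxPair.exists_one [Fintype B] (hP : IsMaxPair 2 (blockIdem M B) P e)
    (hM : IsPModular 2 M) (hB : IsPBlock M B) (h2 : ∀ x ∈ P, x * x = 1) {v : P} (hv : v ≠ 1)
    (ht : ∀ u : P, u ≠ 1 → u ∈ fClass 2 P e v) (hl : lrk 2 M P e (zpowers (v : G)) = 1) :
    (∀ χ ∈ B, blockHeight 2 B χ.1 = 0) ∧ Nat.card B = blockRank 2 B + 1 ∧
      ∃ d : B → ℤ, (∀ χ, Odd (d χ)) ∧ ∑ χ, d χ * d χ = Nat.card P ∧ ∀ η ∈ regLat 2 B,
        ∃ n : B → ℤ, Nat.card P * ip η η =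
          (Nat.card P * ∑ χ, n χ * n χ - (∑ χ, n χ * d χ) ^ 2 : ℤ) := by
  classical
  letI := Fintype.ofFinite P
  have hab : P ≤ C(zpowers (v : G)) := le_centralizer_zpowers_of_comm (fun x hx y hy => by
    rw [← inv_inj, mul_inv_rev, inv_eq_of_mul_eq_one_right (h2 _ (mul_mem hx hy)),
      inv_eq_of_mul_eq_one_right (h2 x hx), inv_eq_of_mul_eq_one_right (h2 y hy)]) v.2
  obtain ⟨d, hd, ho⟩ := hM.exists_isCol_int hB hP (h2 _ v.2) hl fun g _ => by
    rw [inf_eq_left.2 hab]; exact card_le_of_le inf_le_left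
  rw [inf_eq_left.2 hab] at hd
  have h1 : v ∉ fClass 2 P e 1 := by rwa [hP.pair.fClass_of_central (one_mem _)]
  have h3 : ∀ χ, Odd (d χ) := fun χ => by
    obtain ⟨ψ, hψ, h0⟩ := exists_blockHeight_eq_zero (p := 2) (hB.nonempty hM)
    have := hP.even_sum hM hB h2 (fun h => hv (Subtype.ext (mem_bot.1 (h ▸ v.2))))
      (Pi.single χ (d ⟨ψ, hψ⟩) - Pi.single ⟨ψ, hψ⟩ (d χ)) fun u hu => by
        rw [hP.pair.prj_eq (ht u hu)]
        refine hd.prj_vch_eq_zero hM hB hP ?_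
        simp [mul_sub, Finset.sum_sub_distrib, Pi.single_apply, mul_comm]
    simp only [Pi.sub_apply, Finset.sum_sub_distrib, Finset.sum_pi_single', Finset.mem_univ,
      if_true] at this
    exact (Int.even_sub'.1 this).1 ((ho _).2 h0)
  refine ⟨fun χ hχ => (ho ⟨χ, hχ⟩).1 (h3 _), ?_, d, h3, ?_, fun η hη => ?_⟩
  · have h9 := hM.card_eq_sum_fw hB hP
    rw [← Finset.add_sum_erase _ _ (Finset.mem_univ 1), hM.fw_one hB hP, hM.sum_fw_of_eq hP.pair
      (u := v) fun w => ⟨fun h => ht w (Finset.mem_erase.1 h).1, fun h => by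
        simpa using fun e : w = 1 => h1 (mem_fClass_symm (e ▸ h))⟩, hl] at h9
    exact_mod_cast h9
  · have := hd.sum_eq hM hB hP
    simp only [map_intCast] at this
    exact_mod_cast this
  · obtain ⟨θ, hθ, h4, rfl⟩ := mem_regLat_iff.1 hη
    choose n hn using fun χ : B => hθ.exists_ip_eq_int χ.1.isCharacter.isGen
    have cf := hθ.isClassFunction
    have h5 := hM.prj_one_eq_self hB hP (θ := θ - prj 2 M e v θ)
      (by rw [blockPart_sub, h4, hM.blockPart_prj hB hP v cf]) fun u hu => by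
        rw [prj_sub, hP.pair.prj_eq (ht u hu), hM.prj_prj hP.pair v cf, sub_self]
    rw [prj_sub, hM.prj_prj_of_notMem hP.pair h1 cf, sub_zero, hM.prj_one hB hP cf, h4] at h5
    have h6 : θ = vch fun χ => (n χ : ℂ) := by simp only [← hn, ← blockPart_eq_vch, h4]
    refine ⟨n, ?_⟩
    rw [h5, ip_sub_left, ip_sub_right, ip_sub_right, ← hM.ip_prj_comm hP.pair v cf cf,
      hM.ip_prj_prj hP.pair v cf cf, sub_self, sub_zero, mul_sub, ← conj_ip θ (prj 2 M e v θ)]
    nth_rw 1 2 3 [h6]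
    rw [ip_vch_vch_int, ip_vch_left, map_sum, Finset.mul_sum]
    simp only [map_mul, conj_ip, map_intCast, mul_left_comm (Nat.card P : ℂ), hd.mul_ip_prj hM hB hP cf, hn]
    push_cast
    simp only [mul_left_comm _ (∑ χ : B, _), ← Finset.mul_sum, sq]

end Cfsg
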