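import Cfsg.Agent.Ev.Mat
import Cfsg.Agent.Ev.Comb
import Cfsg.Agent.Blk.FusTools

/-!
# Abelian defect group of order 16 with inertial index 9: all heights vanish

Copy the first 60 lines of the proof of `GA.IsMaxPair.nine_cases` (Blk/Grid) to get `X, Y, d` with
`t1 t2 t3 d1`; `d i ≠ 0` and the inequalities for even `d i` come from `exists_nat_ip_prj`;
`8 ≤ k(B)` from `sum_lrk_le` with the list `[1, v, w, v * w]` (ranks `≥ 1, 3, 3, 1`); finish with
`Ev.nine_odd` and `hd'`.
-/

set_option autoImplicit false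
set_option linter.unusedSectionVars false
set_option linter.style.haveILetI false

namespace Cfsg

open MonoidAlgebra GA Subgroup

universe u

local notation "C(" Q ")" => Subgroup.centralizer ((Q : Subgroup _) : Set _)
local notation "N(" Q ")" => Subgroup.normalizer ((Q : Subgroup _) : Set _)

variable {G : Type u} [Group G] [Finite G] {M : Ideal AlgInt} {P : Subgroup G}
  {B : Set (IrrCharacter G)} [CharP (ResK M) 2] {e : (ResK M)[G]}

theorem GA.IsMaxPair.ht_of_nine (hP : IsMaxPair 2 (blockIdem M B) P e) (hM : IsPModular 2 M)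
    (hB : IsPBlock M B) (hab : P ≤ C(P)) (h16 : Nat.card P = 16) (h9 : Nat.card (iAut P e) = 9) :
    ∀ χ ∈ B, blockHeight 2 B χ.1 = 0 := by
  classical
  letI := Fintype.ofFinite B
  letI : CommGroup P := { (inferInstance : Group P) with
    mul_comm := fun a b => Subtype.ext (hab b.2 a a.2) }
  obtain ⟨V, W, v, w, hV, hW, h0, h1, h2, h3, l1, l2, l3⟩ := nine_struct h16 h9
  rw [← hP.lrk_eq_card_stab hM hB hab _ (by omega)] at l1 l2 l3
  simp only [← hP.mem_fClass_iff_iAut hab] at h1 h2 h3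
  have hsq : ∀ x : P, (x : G) * x = 1 := fun x => by_contra fun hx => by
    have := card_dvd_three_of_ne_one hP.pair.isPGroup (hP.not_dvd_card_iAut hM hab) h16.le (x := x)
      fun e => hx (by rw [← sq]; exact congrArg Subtype.val e)
    rw [h9] at this
    omega
  have hc : ∀ x : P, P ≤ C(zpowers (x : G)) := fun x => le_centralizer_zpowers_of_comm hab x.2
  let α : Subgroup P → P → ℂ := fun W => (4 : ℂ) • (1 - (W : Set P).indicator 1)
  have hg : ∀ W : Subgroup P, Nat.card W = 4 → IsGeneralizedCharacter P (α W) ∧ star (α W) = α W :=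
    fun W hW => ⟨by
      have := W.card_mul_index
      rw [hW, h16] at this
      convert (IsCharacter.one.isGen.zsmul 4).sub (isGen_indicator W) using 1
      funext u
      simp [α, show W.index = 4 by omega, mul_sub],
      funext fun u => by by_cases h : u ∈ W <;> simp [α, h]⟩
  let I : P → P → ℂ := fun u => (fClass 2 P e u).indicator 1
  have hI : ∀ u, IsFStable 2 P e (I u) := hP.pair.isFStable_indicator
  have e0 := hP.pair.fClass_of_central (u := 1) (one_mem _)
  obtain ⟨e1, e2, e3, e4⟩ : α W = (4 : ℂ) • (I v + I (v * w)) ∧ α V = (4 : ℂ) • (I w + I (v * w)) ∧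
      α V * α W = (16 : ℂ) • I (v * w) ∧ I 1 = 1 - I v - I w - I (v * w) := by
    have e5 : ∀ u : P, u = 1 ↔ u ∈ V ∧ u ∈ W := fun u =>
      ⟨fun h => h ▸ ⟨one_mem _, one_mem _⟩, fun h => h0 u h.1 h.2⟩
    refine ⟨funext fun u => ?_, funext fun u => ?_, funext fun u => ?_, funext fun u => ?_⟩ <;>
      by_cases a : u ∈ V <;> by_cases b : u ∈ W <;>
      simp [α, I, Set.indicator_apply, h1, h2, h3, e0, e5 u, a, b] <;> norm_num
  have s1 : IsFStable 2 P e (α W) := e1 ▸ ((hI _).add (hI _)).smul 4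
  have s2 : IsFStable 2 P e (α V) := e2 ▸ ((hI _).add (hI _)).smul 4
  have s3 : ∀ W, α W * α W = (4 : ℂ) • α W := fun W => funext fun u => by
    by_cases h : u ∈ W <;> simp [α, h]
  obtain ⟨X, hX, sX⟩ := hM.exists_int_stMat hB hP s1 (hg W hW).1 (hg W hW).2
  obtain ⟨Y, hY, sY⟩ := hM.exists_int_stMat hB hP s2 (hg V hV).1 (hg V hV).2
  obtain ⟨d, hd, hd'⟩ := hM.exists_isCol_int hB hP (hsq (v * w)) l3 fun g _ => by
    rw [inf_eq_left.2 (hc _)]; exact card_le_of_le inf_le_left
  rw [inf_eq_left.2 (hc _), h16] at hd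
  have d1 : ∀ i j, 16 * stMat 2 B e (I (v * w)) i j = d i * d j := fun i j => by
    have := hd.eq i j
    simp only [Nat.cast_ofNat, map_intCast] at this
    exact this
  have t1 : ∀ i j, 16 * stMat 2 B e (I v) i j = (4 * X i j - d i * d j : ℤ) := fun i j => by
    simp [← hX, ← d1, e1, stMat_smul, stMat_add]; ring
  have t2 : ∀ i j, 16 * stMat 2 B e (I w) i j = (4 * Y i j - d i * d j : ℤ) := fun i j => by
    simp [← hY, ← d1, e2, stMat_smul, stMat_add]; ring
  have t3 : ∀ i j, 16 * stMat 2 B e (I 1) i j =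
      (16 * (if i = j then 1 else 0) - 4 * X i j - 4 * Y i j + d i * d j : ℤ) := fun i j => by
    simp only [e4, stMat_sub, hM.stMat_one hB hP, Matrix.sub_apply, mul_sub, t1, t2, d1,
      Matrix.one_apply]
    push_cast
    ring
  have dd : ∑ i, d i * d i = 16 := hd.sum_eq_int hM hB hP
  have key : ∀ {η η'} {X Y Z : Matrix B B ℤ}, IsFStable 2 P e η → IsFStable 2 P e η' →
      (∀ i j, stMat 2 B e η i j = X i j) → (∀ i j, stMat 2 B e η' i j = Y i j) →
      (∀ i j, stMat 2 B e (η' * η) i j = Z i j) → X * Y = Z := fun h h' a b c =>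
    Matrix.ext fun i j => Int.cast_injective (α := ℂ) (by
      simp [← c, ← hM.stMat_mul hB hP h h', Matrix.mul_apply, a, b])
  have hv := (h1 v).1 ((hP.mem_fClass_iff_iAut hab).2 ⟨1, one_mem _, rfl⟩)
  have hw := (h2 w).1 ((hP.mem_fClass_iff_iAut hab).2 ⟨1, one_mem _, rfl⟩)
  have hvw := (h3 (v * w)).1 ((hP.mem_fClass_iff_iAut hab).2 ⟨1, one_mem _, rfl⟩)
  have h8 : 8 ≤ Fintype.card B := by
    have := hM.sum_lrk_le hB hP [1, v, w, v * w] (by
      have a1 : v ≠ 1 := fun e => hv.2 (e ▸ one_mem _)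
      have a2 : w ≠ 1 := fun e => hw.2 (e ▸ one_mem _)
      have a3 : v * w ≠ 1 := fun e => hvw.2 (e ▸ one_mem _)
      simp [e0, h1, h2, a1, a2, a3, hv.1, hv.2, hw.1, hw.2, hvw.1, hvw.2])
    have p := hM.lrk_pos hP.pair (zpowers_le.2 (1 : P).2)
    simp only [List.map_cons, List.map_nil, List.sum_cons, List.sum_nil, l1, l2, l3] at this
    rw [← Nat.card_eq_fintype_card]
    omega
  have loc : ∀ i, d i ≠ 0 ∧ (Even (d i) → 4 ≤ 4 * X i i - d i * d i ∧ 4 ≤ 4 * Y i i - d i * d i ∧
      4 ≤ 16 - 4 * X i i - 4 * Y i i + d i * d i) := fun i => by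
    obtain ⟨c1, a1, a2, a3⟩ := hM.exists_nat_ip_prj hB hP (hsq v) (hc v) i
    obtain ⟨c2, b1, b2, b3⟩ := hM.exists_nat_ip_prj hB hP (hsq w) (hc w) i
    obtain ⟨c3, f1, f2, f3⟩ := hM.exists_nat_ip_prj hB hP (hsq 1) (hc 1) i
    obtain ⟨c4, g1, g2, g3⟩ := hM.exists_nat_ip_prj hB hP (hsq (v * w)) (hc _) i
    rw [h16] at a1 b1 f1 g1
    have k1 := (t1 i i).symm.trans a1
    have k2 := (t2 i i).symm.trans b1
    have k3 := (t3 i i).symm.trans f1
    have k4 := (d1 i i).symm.trans g1
    rw [if_pos rfl] at k3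
    norm_cast at k1 k2 k3 k4
    by_cases h : blockHeight 2 B i.1.1 = 0
    · have o := (hd' i).2 h
      exact ⟨fun e => by rw [e] at o; exact absurd o (by decide),
        fun e => absurd o (Int.not_odd_iff_even.2 e)⟩
    · have := a3 h; have := b3 h; have := f3 h; have := g3 h
      exact ⟨fun e => by rw [e] at k4; omega, fun _ => by omega⟩
  have m1 := key s1 s1 hX hX (Z := 4 • X) fun i j => by simp [s3, stMat_smul, hX]
  have m2 := key s2 s2 hY hY (Z := 4 • Y) fun i j => by simp [s3, stMat_smul, hY]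
  have m3 := key s1 s2 hX hY (Z := Matrix.vecMulVec d d) fun i j => by
    simp [e3, stMat_smul, d1, Matrix.vecMulVec_apply]
  intro χ hχ
  refine (hd' ⟨χ, hχ⟩).1 (Ev.nine_odd sX sY (fun i j => ?_) (fun i j => ?_) (fun i j => ?_) dd
    (fun i => (loc i).1) h8 (fun i => (loc i).2) _)
  · simpa [Matrix.mul_apply] using congrFun (congrFun m1 i) j
  · simpa [Matrix.mul_apply] using congrFun (congrFun m2 i) j
  · simpa [Matrix.mul_apply, Matrix.vecMulVec_apply] using congrFun (congrFun m3 i) j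

end Cfsg
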