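import Cfsg.Agent.Ev.Mat
import Cfsg.Agent.Blk.RankSixteen
import Cfsg.Agent.GW.NonAbA

/-!
# Defect group of order 16 with centre of order 4: heights are at most one

Get `z` with `IsD2 P z` (`P / Z(P)` has order 4, the commutator subgroup has order 2) and
`w ∈ Z(P) ∖ {1, z}`.  `1, z, w` are pairwise not fused (`eq_of_cent` + `IsD2.fix`).  For `χ` of height
`≥ 2` the contributions `16 ip (prj u χ) χ` of `u = 1, z` are `≥ 8` (`exists_cmat`), that of `w` is a
positive real (`vM_ip_prj` / `subPart_ne_zero_of_major`, `ip_prj_prj`), and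
`0 ≤ |χ - prj 1 χ - prj z χ - prj w χ|² = 1 - (sum of the three)` (as in `not_comm_of_card_eq_five`).
-/

set_option autoImplicit false
set_option linter.unusedSectionVars false
set_option linter.style.haveILetI false

namespace Cfsg

open MonoidAlgebra GA Subgroup

universe u

local notation "C(" Q ")" => Subgroup.centralizer ((Q : Subgroup _) : Set _)
local notation "N(" Q ")" => Subgroup.normalizer ((Q : Subgroup _) : Set _)

variable {G : Type u} [Group G] [Finite G] {M : Ideal AlgInt} {P : Subgroup G}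
  {B : Set (IrrCharacter G)} [CharP (ResK M) 2] {e : (ResK M)[G]}

theorem GA.IsMaxPair.ht_le_one (hP : IsMaxPair 2 (blockIdem M B) P e) (hM : IsPModular 2 M)
    (hB : IsPBlock M B) (h16 : Nat.card P = 16) (h4 : Nat.card (center P) = 4) :
    ∀ χ ∈ B, blockHeight 2 B χ.1 ≤ 1 := by
  classical
  letI := Fintype.ofFinite B
  have hidx : (center P).index = 4 := by
    have := (center P).card_mul_index
    rw [h4, h16] at this
    omega
  have hna : ¬ IsMulCommutative P := fun h => by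
    have : center P = ⊤ := eq_top_iff.2 fun a _ => mem_center_iff.2 fun b => h.1.1 b a
    rw [this, index_top] at hidx
    omega
  obtain ⟨z, Z⟩ := GW.exists_isZ4 hna hidx
  have hz : z ∈ P ⊓ C(P) := ⟨Z.mem, Z.cent⟩
  have h4' : Nat.card (P ⊓ C(P) : Subgroup G) = 4 := by
    rw [← center_map_subtype, card_map_subtype, h4]
  obtain ⟨c, hc, hc', -⟩ := exists_four h4' hz Z.ne Z.sq
  intro χ hχ
  by_contra hh
  have big : ∀ u : P, (u : G) * u = 1 → (u : G) ∈ C(P) →
      ∃ a : ℝ, 8 ≤ a ∧ ip (prj 2 M e u χ.1) χ.1 = (a / 16 : ℝ) := fun u h2 hu => by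
    obtain ⟨A, a1, -, -, -, -, a6, -⟩ := hP.exists_cmat hM hB h2 (le_cent_zpowers hu)
    obtain ⟨b1, b2⟩ := a6 ⟨χ, hχ⟩ (by simp only; omega)
    have b3 : (8 : ℤ) ∣ A ⟨χ, hχ⟩ ⟨χ, hχ⟩ :=
      (pow_dvd_pow (2 : ℤ) (show 3 ≤ blockHeight 2 B χ.1 + 1 by omega)).trans b1
    refine ⟨A ⟨χ, hχ⟩ ⟨χ, hχ⟩, by exact_mod_cast Int.le_of_dvd b2 b3, ?_⟩
    have := a1 ⟨χ, hχ⟩ ⟨χ, hχ⟩
    rw [h16] at this
    push_cast
    rw [← this]
    simp
  set z' : P := ⟨z, hz.1⟩
  set w : P := ⟨c, hc.1⟩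
  obtain ⟨c₁, k1, e1⟩ := big 1 (by simp) (one_mem _)
  obtain ⟨c₂, k2, e2⟩ := big z' Z.sq Z.cent
  have e0 := hP.pair.fClass_of_central (u := 1) (one_mem _)
  have n1 : z' ∉ fClass 2 P e 1 := fun h => by
    rw [e0, Set.mem_singleton_iff] at h
    exact Z.ne (congrArg Subtype.val h)
  have n2 : w ∉ fClass 2 P e 1 := fun h => by
    rw [e0, Set.mem_singleton_iff] at h
    exact hc' ((show c = 1 from congrArg Subtype.val h) ▸ one_mem _)
  have n3 : w ∉ fClass 2 P e z' := fun h => by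
    have := hP.eq_of_cent (u := z') (v := w) Z.cent hc.2 h fun g hg _ => Z.fix hg.1
    exact hc' ((show c = z from congrArg Subtype.val this) ▸ mem_zpowers _)
  have hcf := χ.isClassFunction
  have hw : 0 < (ip (prj 2 M e w χ.1) χ.1).re := by
    rw [← hM.ip_prj_prj hP.pair w hcf hcf]
    refine lt_of_le_of_ne (ip_self_re_nonneg _) fun h => ?_
    have h0 := eq_zero_of_ip_self_re h.symm
    obtain ⟨ψ, hψ, h6⟩ := exists_blockHeight_eq_zero (p := 2) (hB.nonempty hM)
    have := hM.vM_ip_prj hB hP (u := w) (le_cent_zpowers hc.2) hχ hψ h6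
    rw [h0, ip_zero_left, mul_zero, map_zero] at this
    exact (pow_pos hM.vM_prime_pos _).ne this
  have key := ip_self_re_nonneg (χ.1 - prj 2 M e (1 : P) χ.1 - prj 2 M e z' χ.1 - prj 2 M e w χ.1)
  simp only [ip_sub_left, ip_sub_right, ← hM.ip_prj_comm hP.pair _ hcf hcf,
    hM.ip_prj_prj hP.pair _ hcf hcf, hM.ip_prj_prj_of_notMem hP.pair n1 hcf hcf,
    hM.ip_prj_prj_of_notMem hP.pair (mt mem_fClass_symm n1) hcf hcf,
    hM.ip_prj_prj_of_notMem hP.pair n2 hcf hcf,
    hM.ip_prj_prj_of_notMem hP.pair (mt mem_fClass_symm n2) hcf hcf,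
    hM.ip_prj_prj_of_notMem hP.pair n3 hcf hcf,
    hM.ip_prj_prj_of_notMem hP.pair (mt mem_fClass_symm n3) hcf hcf, e1, e2, χ.ip_self,
    Complex.sub_re, Complex.ofReal_re, Complex.one_re, Complex.zero_re] at key
  linarith

end Cfsg
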